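import Mathlib
import Groth.Agent.PBasisLib.Admissible

/-!
# Derivations of a field separated by a directed family of subfields
-/

set_option autoImplicit false

universe u

namespace H1JacAbs

variable {L : Type u} [Field L]

/-- Linear independence with coefficients in a subfield. -/
def Indep (F : Subfield L) {n : ℕ} (e : Fin n → L) : Prop :=
  ∀ c : Fin n → L, (∀ j, c j ∈ F) → ∑ j, c j * e j = 0 → ∀ j, c j = 0

/-- Being a combination with coefficients in a subfield. -/
def Comb (F : Subfield L) {n : ℕ} (e : Fin n → L) (y : L) : Prop :=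
  ∃ c : Fin n → L, (∀ j, c j ∈ F) ∧ ∑ j, c j * e j = y

theorem Indep.mono {F F' : Subfield L} (h : F' ≤ F) {n : ℕ} {e : Fin n → L} (he : Indep F e) :
    Indep F' e := fun c hc => he c fun j => h (hc j)

/-- A family independent over the intersection is independent over some member of the family. -/
theorem exists_indep {ι : Type*} [Nonempty ι] (F : ι → Subfield L)
    (hdir : ∀ a b, ∃ c, F c ≤ F a ⊓ F b) (N : Subfield L) (hinf : ∀ x, (∀ i, x ∈ F i) → x ∈ N) :
    ∀ {n : ℕ} (e : Fin n → L), Indep N e → ∃ i₀, ∀ i, F i ≤ F i₀ → Indep (F i) e := by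
  intro n
  induction n with
  | zero => exact fun e _ => ⟨Classical.arbitrary ι, fun i _ c _ _ j => j.elim0⟩
  | succ n ih =>
    intro e he
    have hN : N ≤ N := le_rfl
    obtain ⟨i₁, hi₁⟩ := ih (fun j => e j.castSucc) (fun c hc h0 j => by
      have := he (Fin.snoc c 0) (Fin.lastCases (by simp) fun j => by simp [hc j])
        (by simp [Fin.sum_univ_castSucc, h0]) j.castSucc
      simpa using this)
    by_contra hcon
    push Not at hcon
    have key : ∀ i, F i ≤ F i₁ → ∃ a : Fin n → L, (∀ j, a j ∈ F i) ∧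
        ∑ j, a j * e j.castSucc = e (Fin.last n) := by
      intro i hi
      obtain ⟨i', hi'i, hdep⟩ := hcon i
      unfold Indep at hdep
      push Not at hdep
      obtain ⟨c, hc, h0, j, hj⟩ := hdep
      have hl : c (Fin.last n) ≠ 0 := by
        intro hl
        rw [Fin.sum_univ_castSucc, hl, zero_mul, add_zero] at h0
        refine hj ?_
        refine Fin.lastCases hl (fun j => ?_) j
        exact hi₁ i' (hi'i.trans hi) (fun j => c j.castSucc) (fun j => hc _) h0 j
      refine ⟨fun j => -(c j.castSucc / c (Fin.last n)),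
        fun j => hi'i (neg_mem (div_mem (hc _) (hc _))), ?_⟩
      rw [Fin.sum_univ_castSucc] at h0
      rw [eq_neg_of_add_eq_zero_right h0 |> fun h => show e (Fin.last n) =
        -(∑ j : Fin n, c j.castSucc * e j.castSucc) / c (Fin.last n) by rw [← h, mul_div_cancel_left₀ _ hl]]
      rw [neg_div, Finset.sum_div, ← Finset.sum_neg_distrib]
      refine Finset.sum_congr rfl fun j _ => ?_
      ring
    obtain ⟨a, ha, hae⟩ := key i₁ le_rfl
    have hamem : ∀ i j, a j ∈ F i := fun i j => by
      obtain ⟨i', hi'⟩ := hdir i i₁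
      obtain ⟨a', ha', hae'⟩ := key i' (hi'.trans inf_le_right)
      have h := hi₁ i₁ le_rfl (fun j => a j - a' j)
        (fun j => sub_mem (ha j) ((hi'.trans inf_le_right) (ha' j)))
        (by simp [sub_mul, hae, hae']) j
      rw [sub_eq_zero.mp h]
      exact (hi'.trans inf_le_left) (ha' j)
    have := he (Fin.snoc a (-1)) (Fin.lastCases (by simp)
      fun j => by simpa using hinf _ fun i => hamem i j)
      (by simp [Fin.sum_univ_castSucc, hae]) (Fin.last n)
    simp at this

/-- A spanning family can be shrunk to an independent one. -/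
theorem exists_indep_sub (N : Subfield L) :
    ∀ {n : ℕ} (w : Fin n → L), ∃ (m : ℕ) (v : Fin m → L), Indep N v ∧
      Set.range v ⊆ Set.range w ∧ ∀ y, Comb N w y → Comb N v y := by
  intro n
  induction n with
  | zero => exact fun w => ⟨0, w, fun c _ _ j => j.elim0, le_rfl, fun y h => h⟩
  | succ n ih =>
    intro w
    by_cases hw : Indep N w
    · exact ⟨n + 1, w, hw, le_rfl, fun y h => h⟩
    unfold Indep at hw
    push Not at hw
    obtain ⟨c, hc, h0, j, hj⟩ := hw
    obtain ⟨m, v, hv, hvr, hvc⟩ := ih (fun i => w (j.succAbove i))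
    refine ⟨m, v, hv, hvr.trans (by rintro _ ⟨i, rfl⟩; exact ⟨_, rfl⟩), fun y hy => hvc y ?_⟩
    obtain ⟨d, hd, rfl⟩ := hy
    refine ⟨fun i => d (j.succAbove i) - d j / c j * c (j.succAbove i),
      fun i => sub_mem (hd _) (mul_mem (div_mem (hd _) (hc _)) (hc _)), ?_⟩
    rw [Fin.sum_univ_succAbove _ j] at h0 ⊢
    have h1 : ∑ i, c (j.succAbove i) * w (j.succAbove i) = -(c j * w j) :=
      eq_neg_of_add_eq_zero_right h0
    simp only [sub_mul, mul_assoc, Finset.sum_sub_distrib, ← Finset.mul_sum, h1]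
    field_simp
    ring

/-- The kernel of a derivation of a field. -/
def kerField (δ : Derivation ℤ L L) : Subfield L where
  carrier := {x | δ x = 0}
  one_mem' := δ.map_one_eq_zero
  zero_mem' := map_zero δ
  add_mem' {a b} ha hb := by simp_all
  neg_mem' {a} ha := by simp_all
  mul_mem' {a b} ha hb := by simp_all
  inv_mem' a ha := by simp_all [Derivation.leibniz_inv]

theorem mem_kerField {δ : Derivation ℤ L L} {x : L} : x ∈ kerField δ ↔ δ x = 0 := Iff.rfl

theorem derivation_sum_apply {R : Type*} [CommRing R] [Algebra R L] {κ : Type*} (t : Finset κ)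
    (D : κ → Derivation R L L) (w : L) : (∑ a ∈ t, D a) w = ∑ a ∈ t, D a w := by
  classical
  induction t using Finset.induction with
  | empty => simp
  | insert a t ha ih => rw [Finset.sum_insert ha, Finset.sum_insert ha, Derivation.add_apply, ih]

variable (p : ℕ) [Fact p.Prime] [CharP L p]

theorem derivation_pow (δ : Derivation ℤ L L) (a : L) : δ (a ^ p) = 0 := by
  rw [Derivation.leibniz_pow, nsmul_eq_mul, CharP.cast_eq_zero, zero_mul]

/-- A derivation over a subfield containing the `p`th powers taking value `1` at an outside element. -/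
theorem exists_derivation_one (E : Type u) [Field E] [Algebra E L]
    (hE : ∀ a : L, a ^ p ∈ (algebraMap E L).range) (y : L) (hy : y ∉ (algebraMap E L).range) :
    ∃ D : Derivation E L L, D y = 1 := by
  classical
  have hbot : Groth.Agent.PBasisLib.Fp p E (∅ : Set L) = ⊥ := by
    rw [eq_bot_iff, Groth.Agent.PBasisLib.Fp, IntermediateField.adjoin_le_iff]
    rintro x (⟨a, rfl⟩ | hx)
    · exact IntermediateField.mem_bot.mpr (hE a)
    · exact absurd hx (Set.notMem_empty x)
  have hfree : Groth.Agent.PBasisLib.Free p E (fun _ : PUnit.{u + 1} => y) := by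
    intro a hmem
    have h2 : y ∈ Groth.Agent.PBasisLib.Fp p E (∅ : Set L) := by
      refine Groth.Agent.PBasisLib.Fp_mono p E ?_ hmem
      rintro _ ⟨b, hb, -⟩
      exact absurd (Subsingleton.elim b a) hb
    rw [hbot, IntermediateField.mem_bot] at h2
    exact hy h2
  rw [Groth.Agent.PBasisLib.free_iff_linearIndependent_D] at hfree
  obtain ⟨φ, hφ⟩ := Module.Projective.exists_dual_ne_zero L (hfree.ne_zero PUnit.unit)
  refine ⟨(φ (KaehlerDifferential.D E L y))⁻¹ • φ.compDer (KaehlerDifferential.D E L), ?_⟩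
  exact inv_mul_cancel₀ hφ

/-- Generators, dual derivations and the degree of an extension of exponent one. -/
theorem exists_gen : ∀ (d : ℕ) (E : Type u) [Field E] [Algebra E L] [FiniteDimensional E L],
    Module.finrank E L ≤ d → (∀ a : L, a ^ p ∈ (algebraMap E L).range) →
    ∃ (n : ℕ) (z : Fin n → L) (D : Fin n → Derivation E L L), Module.finrank E L = p ^ n ∧
      (∀ a c, D a (z c) = if a = c then 1 else 0) ∧
      ∀ δ : Derivation E L L, (∀ c, δ (z c) = 0) → δ = 0 := by
  intro d
  induction d using Nat.strong_induction_on with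
  | _ d ih =>
    intro E _ _ _ hd hE
    classical
    by_cases htop : ∀ y : L, y ∈ (algebraMap E L).range
    · refine ⟨0, Fin.elim0, Fin.elim0, ?_, fun a => a.elim0, fun δ _ => ?_⟩
      · rw [pow_zero]
        refine finrank_eq_one (1 : L) one_ne_zero fun w => ?_
        obtain ⟨a, rfl⟩ := htop w
        exact ⟨a, by rw [Algebra.smul_def, mul_one]⟩
      · ext w
        obtain ⟨a, rfl⟩ := htop w
        simp
    push Not at htop
    obtain ⟨y, hy⟩ := htop
    set E' := IntermediateField.adjoin E ({y} : Set L) with hE'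
    have hint : IsIntegral E y := IsIntegral.of_finite E y
    have hmin : (minpoly E y).natDegree = p := by
      obtain ⟨a, ha⟩ := hE y
      have hirr : Irreducible (Polynomial.X ^ p - Polynomial.C a) := by
        refine X_pow_sub_C_irreducible_of_prime Fact.out fun b hb => hy ⟨b, ?_⟩
        have h1 : algebraMap E L b ^ p = y ^ p := by rw [← map_pow, hb, ha]
        exact frobenius_inj L p h1
      rw [← minpoly.eq_of_irreducible_of_monic hirr (x := y) (by simp [ha])
        (Polynomial.monic_X_pow_sub_C _ (Nat.Prime.ne_zero Fact.out)), Polynomial.natDegree_X_pow_sub_C]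
    have hmul := Module.finrank_mul_finrank E E' L
    rw [IntermediateField.adjoin.finrank hint, hmin] at hmul
    have hlt : Module.finrank E' L < d := by
      have h2 : 0 < Module.finrank E' L := Module.finrank_pos
      have h3 := (Fact.out : p.Prime).two_le
      nlinarith
    obtain ⟨n, z, D', hn, hD', hext⟩ := ih _ hlt E' le_rfl fun a => by
      obtain ⟨b, hb⟩ := hE a
      exact ⟨algebraMap E E' b, hb⟩
    obtain ⟨pd, hy1⟩ := exists_derivation_one p E hE y hy
    let Dr : Fin n → Derivation E L L := fun a => (D' a).restrictScalars E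
    have hDry : ∀ a, Dr a y = 0 := fun a =>
      (D' a).map_algebraMap ⟨y, IntermediateField.mem_adjoin_simple_self E y⟩
    let Dy : Derivation E L L := pd - ∑ a, pd (z a) • Dr a
    have hDy : ∀ w, Dy w = pd w - ∑ a, pd (z a) * Dr a w := fun w => by
      simp [Dy, derivation_sum_apply]
    refine ⟨n + 1, Fin.cons y z, Fin.cons Dy Dr, ?_, ?_, ?_⟩
    · rw [← hmul, hn, pow_succ']
    · intro a c
      refine Fin.cases ?_ (fun a' => ?_) a <;> refine Fin.cases ?_ (fun c' => ?_) c
      · simp [hDy, hDry, hy1]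
      · have h : ∑ a, pd (z a) * Dr a (z c') = pd (z c') := by
          rw [Finset.sum_eq_single c']
          · simp [Dr, hD']
          · intro b _ hb; simp [Dr, hD', hb]
          · simp
        simp [hDy, h, Fin.succ_ne_zero c', (Fin.succ_ne_zero c').symm]
      · simp [hDry, Fin.succ_ne_zero]
      · simp [Dr, hD', Fin.succ_inj]
    · intro δ hδ
      have hδy : δ y = 0 := hδ 0
      have hker : ∀ e : E', δ (e : L) = 0 := by
        intro e
        have he : (e : L) ∈ Algebra.adjoin E ({y} : Set L) := by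
          rw [← IntermediateField.adjoin_simple_toSubalgebra_of_isAlgebraic hint.isAlgebraic]
          exact e.2
        exact Derivation.eqOn_adjoin (D1 := δ) (D2 := 0) (s := {y})
          (fun w hw => by rw [Set.mem_singleton_iff.mp hw, hδy]; rfl) he
      let δ' : Derivation E' L L := Derivation.mk'
        { toFun := δ, map_add' := map_add δ, map_smul' := fun e a => by
            rw [Algebra.smul_def, Derivation.leibniz, show algebraMap E' L e = (e : L) from rfl, hker,
              smul_zero, add_zero]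
            rfl }
        fun a b => δ.leibniz a b
      have h0 := hext δ' fun c => hδ c.succ
      ext w
      exact DFunLike.congr_fun h0 w

section Separate

variable {ι : Type*} [Nonempty ι] (F : ι → Subfield L) (hdir : ∀ a b, ∃ c, F c ≤ F a ⊓ F b)
  (N : Subfield L) (hNF : ∀ i, N ≤ F i) (hinf : ∀ x, (∀ i, x ∈ F i) → x ∈ N)

omit [CharP L p] in
theorem inv_eq_pow (z : L) : z⁻¹ = z ^ (p - 1) * z⁻¹ ^ p := by
  rcases eq_or_ne z 0 with rfl | hz
  · simp [zero_pow (Nat.Prime.ne_zero (Fact.out : p.Prime))]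
  have hp := (Fact.out : p.Prime).pos
  conv_rhs => rw [show p = (p - 1) + 1 by omega, pow_succ z⁻¹]
  rw [Nat.add_sub_cancel, ← mul_assoc, ← mul_pow, mul_inv_cancel₀ hz, one_pow, one_mul]

omit [CharP L p] in
/-- A subring containing all `p`th powers is a subfield. -/
theorem exists_subfield (R : Subring L) (hR : ∀ a : L, a ^ p ∈ R) :
    ∃ E : Subfield L, ∀ x, x ∈ E ↔ x ∈ R :=
  ⟨{ R with
      inv_mem' := fun a ha => by
        rw [inv_eq_pow p a]
        exact R.mul_mem (R.pow_mem ha _) (hR _) }, fun _ => Iff.rfl⟩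

omit [CharP L p] in
/-- The compositum with a subfield spanned by a finite family is spanned by it. -/
theorem comb_of_mem_closure (G : Subfield L) (hNG : N ≤ G) (T : Subfield L) (hT : ∀ a : L, a ^ p ∈ T)
    {n : ℕ} (w : Fin n → L) (hwT : ∀ j, w j ∈ T) (hTw : ∀ t ∈ T, Comb N w t)
    {y : L} (hy : y ∈ Subfield.closure ((G : Set L) ∪ T)) : Comb G w y := by
  classical
  have hTw' : ∀ t ∈ T, Comb G w t := fun t ht => by
    obtain ⟨c, hc, rfl⟩ := hTw t ht
    exact ⟨c, fun j => hNG (hc j), rfl⟩
  let R : Subring L :=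
    { carrier := {x | Comb G w x}
      zero_mem' := ⟨fun _ => 0, fun _ => zero_mem G, by simp⟩
      one_mem' := hTw' 1 T.one_mem
      add_mem' := by
        rintro _ _ ⟨c, hc, rfl⟩ ⟨d, hd, rfl⟩
        exact ⟨fun j => c j + d j, fun j => add_mem (hc j) (hd j), by simp [add_mul, Finset.sum_add_distrib]⟩
      neg_mem' := by
        rintro _ ⟨c, hc, rfl⟩
        exact ⟨fun j => -c j, fun j => neg_mem (hc j), by simp [Finset.sum_neg_distrib]⟩
      mul_mem' := by
        rintro _ _ ⟨c, hc, rfl⟩ ⟨d, hd, rfl⟩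
        choose e he hee using fun x : Fin n × Fin n => hTw' (w x.1 * w x.2) (T.mul_mem (hwT _) (hwT _))
        refine ⟨fun j => ∑ x : Fin n × Fin n, c x.1 * d x.2 * e x j,
          fun j => sum_mem fun x _ => mul_mem (mul_mem (hc _) (hd _)) (he _ _), ?_⟩
        simp only [Finset.sum_mul, mul_assoc]
        rw [Finset.sum_comm]
        simp only [← Finset.mul_sum, hee, Fintype.sum_prod_type]
        refine Finset.sum_congr rfl fun a _ => ?_
        simp only [Finset.mul_sum]
        exact Finset.sum_congr rfl fun b _ => by ring }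
  obtain ⟨E, hE⟩ := exists_subfield p R fun a => hTw' _ (hT a)
  refine (hE y).1 (Subfield.closure_le.2 ?_ hy)
  rintro x (hx | hx)
  · obtain ⟨c, hc, h1⟩ := hTw' 1 T.one_mem
    exact (hE x).2 ⟨fun j => x * c j, fun j => mul_mem hx (hc j), by
      simp only [mul_assoc, ← Finset.mul_sum, h1, mul_one]⟩
  · exact (hE x).2 (hTw' x hx)

variable (hNpow : ∀ x ∈ N, ∃ a, a ^ p = x) {d : ℕ} (e : Fin d → L)
  (hpow : ∀ a : L, Comb N (fun j => e j ^ p) (a ^ p))

omit [CharP L p] in
include hpow in
/-- The field generated by the `p`th powers and finitely many elements has finite degree over `N`. -/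
theorem exists_spanning : ∀ {m : ℕ} (y : Fin m → L), ∃ (n : ℕ) (w : Fin n → L),
    (∀ j, w j ∈ Subfield.closure (Set.range (fun a : L => a ^ p) ∪ Set.range y)) ∧
    ∀ t ∈ Subfield.closure (Set.range (fun a : L => a ^ p) ∪ Set.range y), Comb N w t := by
  classical
  intro m y
  let w : Fin d × (Fin m → Fin p) → L := fun x => e x.1 ^ p * ∏ i, y i ^ (x.2 i : ℕ)
  let C : Set L := {t | ∃ c : Fin d × (Fin m → Fin p) → L, (∀ x, c x ∈ N) ∧ ∑ x, c x * w x = t}
  have hS1 : ∀ a : L, a ^ p ∈ Subfield.closure (Set.range (fun a : L => a ^ p) ∪ Set.range y) := fun a =>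
    Subfield.subset_closure (Or.inl ⟨a, rfl⟩)
  have hS2 : ∀ i, y i ∈ Subfield.closure (Set.range (fun a : L => a ^ p) ∪ Set.range y) := fun i =>
    Subfield.subset_closure (Or.inr ⟨i, rfl⟩)
  have hwmem : ∀ x, w x ∈ Subfield.closure (Set.range (fun a : L => a ^ p) ∪ Set.range y) := fun x =>
    mul_mem (hS1 _) (prod_mem fun i _ => pow_mem (hS2 i) _)
  -- monomials times `p`th powers
  have hmon : ∀ (a : L) (r : Fin m → ℕ), a ^ p * ∏ i, y i ^ r i ∈ C := by
    intro a r
    obtain ⟨c, hc, hce⟩ := hpow (a * ∏ i, y i ^ (r i / p))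
    have hp := (Fact.out : p.Prime).pos
    refine ⟨fun x => if x.2 = (fun i => ⟨r i % p, Nat.mod_lt _ hp⟩) then c x.1 else 0,
      fun x => by beta_reduce; split_ifs <;> simp [hc], ?_⟩
    rw [Fintype.sum_prod_type]
    simp only [ite_mul, zero_mul, Finset.sum_ite_eq', Finset.mem_univ, if_true, w]
    simp only [← mul_assoc, ← Finset.sum_mul, hce]
    rw [mul_pow, ← Finset.prod_pow, mul_assoc, ← Finset.prod_mul_distrib]
    congr 1
    refine Finset.prod_congr rfl fun i _ => ?_
    rw [← pow_mul, ← pow_add, mul_comm, Nat.div_add_mod]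
  have hadd : ∀ s t, s ∈ C → t ∈ C → s + t ∈ C := by
    rintro _ _ ⟨c, hc, rfl⟩ ⟨c', hc', rfl⟩
    exact ⟨fun x => c x + c' x, fun x => add_mem (hc x) (hc' x), by simp [add_mul, Finset.sum_add_distrib]⟩
  have hscal : ∀ a ∈ N, ∀ t ∈ C, a * t ∈ C := by
    rintro a ha _ ⟨c, hc, rfl⟩
    exact ⟨fun x => a * c x, fun x => mul_mem ha (hc x), by simp [Finset.mul_sum, mul_assoc]⟩
  have h0 : (0 : L) ∈ C := ⟨fun _ => 0, fun _ => zero_mem N, by simp⟩
  have hsum : ∀ f : Fin d × (Fin m → Fin p) → L, (∀ x, f x ∈ C) → ∑ x, f x ∈ C := fun f hf =>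
    Finset.sum_induction f (· ∈ C) hadd h0 fun x _ => hf x
  let R : Subring L :=
    { carrier := C
      zero_mem' := h0
      one_mem' := by simpa using hmon 1 fun _ => 0
      add_mem' := fun {a b} ha hb => hadd a b ha hb
      neg_mem' := by
        rintro _ ⟨c, hc, rfl⟩
        exact ⟨fun x => -c x, fun x => neg_mem (hc x), by simp [Finset.sum_neg_distrib]⟩
      mul_mem' := by
        rintro _ _ ⟨c, hc, rfl⟩ ⟨c', hc', rfl⟩
        rw [Finset.sum_mul]
        refine hsum _ fun x => ?_
        rw [mul_assoc]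
        refine hscal _ (hc x) _ ?_
        rw [Finset.mul_sum]
        refine hsum _ fun x' => ?_
        rw [mul_left_comm]
        refine hscal _ (hc' x') _ ?_
        have := hmon (e x.1 * e x'.1) fun i => (x.2 i : ℕ) + (x'.2 i : ℕ)
        simp only [mul_pow, pow_add, Finset.prod_mul_distrib] at this
        simpa [w, mul_comm, mul_assoc, mul_left_comm] using this }
  obtain ⟨E, hE⟩ := exists_subfield p R fun a => by
    have := hmon a fun _ => 0
    simpa [R] using this
  let eqv := (Fintype.equivFin (Fin d × (Fin m → Fin p))).symm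
  refine ⟨_, fun j => w (eqv j), fun j => hwmem _, fun t ht => ?_⟩
  have hCt : t ∈ C := (hE t).1 (Subfield.closure_le.2 (by
    rintro x (⟨a, rfl⟩ | ⟨i, rfl⟩)
    · exact (hE _).2 (by simpa [R] using hmon a fun _ => 0)
    · exact (hE _).2 (by
        have := hmon 1 (Pi.single i 1)
        simpa [R, Pi.single_apply, pow_ite, Finset.prod_ite_eq'] using this)) ht)
  obtain ⟨c, hc, rfl⟩ := hCt
  exact ⟨fun j => c (eqv j), fun j => hc _, Equiv.sum_comp eqv fun x => c x * w x⟩

include hdir hNF hinf hNpow hpow in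
/-- Finitely many values of a derivation are taken by a derivation over a member of the family. -/
theorem exists_match : ∀ {m : ℕ} (y : Fin m → L), ∃ i₀, ∀ i, F i ≤ F i₀ →
    ∀ δ : Derivation ℤ L L, ∃ δ' : Derivation ℤ L L, (∀ x ∈ F i, δ' x = 0) ∧ ∀ j, δ' (y j) = δ (y j) := by
  intro m
  induction m with
  | zero =>
    exact fun y => ⟨Classical.arbitrary ι, fun i _ δ => ⟨0, fun x _ => rfl, fun j => j.elim0⟩⟩
  | succ m ih =>
    intro y
    obtain ⟨i₁, hi₁⟩ := ih fun j => y j.castSucc
    set T := Subfield.closure (Set.range (fun a : L => a ^ p) ∪ Set.range fun j : Fin m => y j.castSucc) with hT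
    have hTker : ∀ δ : Derivation ℤ L L, (∀ j : Fin m, δ (y j.castSucc) = 0) → ∀ t ∈ T, δ t = 0 := by
      intro δ hδ
      have : T ≤ kerField δ := Subfield.closure_le.2 (by
        rintro x (⟨a, rfl⟩ | ⟨j, rfl⟩)
        · exact derivation_pow p δ a
        · exact hδ j)
      exact fun t ht => this ht
    by_cases hyT : y (Fin.last m) ∈ T
    · refine ⟨i₁, fun i hi δ => ?_⟩
      obtain ⟨δ', h1, h2⟩ := hi₁ i hi δ
      refine ⟨δ', h1, Fin.lastCases ?_ h2⟩
      have := hTker (δ' - δ) (fun j => by simp [h2 j]) _ hyT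
      simpa [sub_eq_zero] using this
    obtain ⟨n, w, hwT, hTw⟩ := exists_spanning p N e hpow fun j : Fin m => y j.castSucc
    obtain ⟨n', v, hv, hvr, hvc⟩ := exists_indep_sub N w
    have hvT : ∀ j, v j ∈ T := fun j => by
      obtain ⟨j', hj'⟩ := hvr ⟨j, rfl⟩
      rw [← hj']; exact hwT j'
    have hNT : N ≤ T := fun x hx => by
      obtain ⟨a, rfl⟩ := hNpow x hx
      exact Subfield.subset_closure (Or.inl ⟨a, rfl⟩)
    have hindep : Indep N (Fin.snoc v (y (Fin.last m))) := by
      intro c hc h0
      simp only [Fin.sum_univ_castSucc, Fin.snoc_castSucc, Fin.snoc_last] at h0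
      have hl : c (Fin.last n') = 0 := by
        by_contra hl
        refine hyT ?_
        have h1 : y (Fin.last m) = -(∑ j : Fin n', c j.castSucc * v j) / c (Fin.last n') := by
          rw [eq_div_iff hl, eq_neg_iff_add_eq_zero, ← h0]; ring
        rw [h1]
        exact div_mem (neg_mem (sum_mem fun j _ => mul_mem (hNT (hc _)) (hvT j))) (hNT (hc _))
      rw [hl, zero_mul, add_zero] at h0
      exact Fin.lastCases hl (hv (fun j => c j.castSucc) (fun j => hc _) h0)
    obtain ⟨i₂, hi₂⟩ := exists_indep F hdir N hinf _ hindep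
    obtain ⟨i₀, hi₀⟩ := hdir i₁ i₂
    refine ⟨i₀, fun i hi δ => ?_⟩
    obtain ⟨δ', h1, h2⟩ := hi₁ i (hi.trans (hi₀.trans inf_le_left)) δ
    have hI := hi₂ i (hi.trans (hi₀.trans inf_le_right))
    set E := Subfield.closure ((F i : Set L) ∪ T) with hEdef
    have hyE : y (Fin.last m) ∉ E := by
      intro hmem
      obtain ⟨c, hc, hcy⟩ := comb_of_mem_closure p N (F i) (hNF i) T
        (fun a => Subfield.subset_closure (Or.inl ⟨a, rfl⟩)) v hvT (fun t ht => hvc t (hTw t ht)) hmem
      have := hI (Fin.snoc c (-1)) (Fin.lastCases (by simp) fun j => by simp [hc j])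
        (by simp [Fin.sum_univ_castSucc, hcy]) (Fin.last n')
      simp at this
    obtain ⟨pd, hy1⟩ := exists_derivation_one p E
      (fun a => ⟨⟨a ^ p, Subfield.subset_closure (Or.inr (Subfield.subset_closure (Or.inl ⟨a, rfl⟩)))⟩, rfl⟩)
      (y (Fin.last m)) (by rintro ⟨a, ha⟩; exact hyE (ha ▸ a.2))
    let pd' : Derivation ℤ L L := Derivation.mk' (pd.toLinearMap.toAddMonoidHom.toIntLinearMap) fun a b => pd.leibniz a b
    have hpdE : ∀ x ∈ E, pd' x = 0 := fun x hx => pd.map_algebraMap ⟨x, hx⟩
    refine ⟨δ' + (δ (y (Fin.last m)) - δ' (y (Fin.last m))) • pd', fun x hx => ?_, Fin.lastCases ?_ fun j => ?_⟩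
    · simp [h1 x hx, hpdE x (Subfield.subset_closure (Or.inl hx))]
    · have : pd' (y (Fin.last m)) = 1 := hy1
      simp [this]
    · simp [h2 j, hpdE _ (Subfield.subset_closure (Or.inr (Subfield.subset_closure (Or.inr ⟨j, rfl⟩))))]

end Separate

end H1JacAbs
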