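import Mathlib
import Groth.Agent.H1JacAbs.Field
import Groth.Agent.H1PS.Coeff
import Groth.Agent.PSLib.Regular

/-!
# Coefficientwise derivations of power series and series with restricted coefficients
-/

set_option autoImplicit false

universe u

open Groth.Agent MvPowerSeries

namespace H1JacAbs

variable {K : Type u} [Field K] {s : ℕ}

/-- The coefficientwise extension of a derivation. -/
noncomputable def cder (D : Derivation ℤ K K) :
    Derivation ℤ (MvPowerSeries (Fin s) K) (MvPowerSeries (Fin s) K) :=
  Derivation.mk'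
    (AddMonoidHom.toIntLinearMap
      { toFun := fun g m => D (coeff m g)
        map_zero' := by funext m; simp; rfl
        map_add' := fun f g => by
          funext m
          show D (coeff m (f + g)) = D (coeff m f) + D (coeff m g)
          rw [map_add, map_add] })
    fun f g => by
      classical
      ext m
      show D (coeff m (f * g)) = _
      rw [coeff_mul, map_sum, smul_eq_mul, smul_eq_mul, map_add, mul_comm g, coeff_mul, coeff_mul,
        ← Finset.sum_add_distrib]
      refine Finset.sum_congr rfl fun x _ => ?_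
      rw [Derivation.leibniz, smul_eq_mul, smul_eq_mul]
      show _ = _ * D (coeff x.2 g) + D (coeff x.1 f) * _
      ring

theorem coeff_cder (D : Derivation ℤ K K) (m : Fin s →₀ ℕ) (g : MvPowerSeries (Fin s) K) :
    coeff m (cder D g) = D (coeff m g) := rfl

theorem cder_C (D : Derivation ℤ K K) (c : K) :
    cder D (C c : MvPowerSeries (Fin s) K) = C (D c) := by
  classical
  ext m
  rw [coeff_cder, coeff_C, coeff_C]
  split_ifs <;> simp

theorem cder_X (D : Derivation ℤ K K) (i : Fin s) : cder D (X i : MvPowerSeries (Fin s) K) = 0 := by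
  classical
  ext m
  rw [coeff_cder, coeff_X]
  split_ifs <;> simp

variable (p : ℕ) [Fact p.Prime] [CharP K p] (F : Subfield K)

omit [CharP K p] in
/-- Every series is a combination of finitely many monomials over the restricted series. -/
theorem exists_decomp {N : ℕ} (c : Fin N → K) (hc : ∀ y, Comb F c y) (g : MvPowerSeries (Fin s) K) :
    ∃ G : (Fin s → Fin p) × Fin N → MvPowerSeries (Fin s) K,
      (∀ x, G x ∈ H1PS.ser F {m | ∀ i, p ∣ m i} (H1PS.isExpSet_dvd p)) ∧
      g = ∑ x, monomial (Finsupp.equivFunOnFinite.symm fun i => (x.1 i : ℕ)) (c x.2) * G x := by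
  classical
  have hp := (Fact.out : p.Prime).pos
  choose d hd hde using hc
  let em : (Fin s → Fin p) → (Fin s →₀ ℕ) := fun a => Finsupp.equivFunOnFinite.symm fun i => (a i : ℕ)
  let G : (Fin s → Fin p) × Fin N → MvPowerSeries (Fin s) K := fun x m =>
    if ∀ i, p ∣ m i then d (coeff (m + em x.1) g) x.2 else 0
  have hG : ∀ x m, coeff m (G x) = if ∀ i, p ∣ m i then d (coeff (m + em x.1) g) x.2 else 0 :=
    fun x m => rfl
  refine ⟨G, fun x m => ?_, ?_⟩
  · rw [hG]
    split_ifs with h
    · exact ⟨hd _ _, fun hn => absurd h hn⟩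
    · exact ⟨zero_mem F, fun _ => rfl⟩
  ext n
  simp only [map_sum, coeff_monomial_mul, hG]
  rw [Fintype.sum_prod_type]
  let a₀ : Fin s → Fin p := fun i => ⟨n i % p, Nat.mod_lt _ hp⟩
  have hle : em a₀ ≤ n := fun i => by simp [em, a₀, Nat.mod_le]
  rw [Finset.sum_eq_single a₀]
  · have hdvd : ∀ i, p ∣ (n - em a₀) i := fun i => by
      simp [em, a₀, Finsupp.tsub_apply, Nat.dvd_sub_mod]
    rw [← hde (coeff n g)]
    refine Finset.sum_congr rfl fun x _ => ?_
    rw [if_pos hle, if_pos hdvd, tsub_add_cancel_of_le hle, mul_comm]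
  · intro a _ ha
    refine Finset.sum_eq_zero fun x _ => ?_
    split_ifs with h1 h2
    · refine absurd ?_ ha
      funext i
      have h3 := h1 i
      have h4 := h2 i
      simp [em, Finsupp.tsub_apply] at h3 h4
      refine Fin.ext ?_
      obtain ⟨q, hq⟩ := h4
      have : n i = (a i : ℕ) + p * q := by omega
      simp [a₀, this, Nat.mod_eq_of_lt (a i).2]
    · simp
    · rfl
  · exact fun h => absurd (Finset.mem_univ _) h

/-- A derivation into a finite module killing the constants in `F` kills the restricted series. -/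
theorem derivation_ser {M : Type u} [AddCommGroup M] [Module (MvPowerSeries (Fin s) K) M]
    [Module.Finite (MvPowerSeries (Fin s) K) M]
    (δ : Derivation ℤ (MvPowerSeries (Fin s) K) M) (hδ : ∀ c ∈ F, δ (C c) = 0)
    (g : MvPowerSeries (Fin s) K) (hg : g ∈ H1PS.ser F {m | ∀ i, p ∣ m i} (H1PS.isExpSet_dvd p)) :
    δ g = 0 := by
  classical
  let m := IsLocalRing.maximalIdeal (MvPowerSeries (Fin s) K)
  haveI : CharP (MvPowerSeries (Fin s) K) p :=
    charP_of_injective_ringHom (f := C) (MvPowerSeries.C_injective) p
  have hpow : ∀ n, ∀ g ∈ m ^ (n + 1), δ g ∈ m ^ n • (⊤ : Submodule (MvPowerSeries (Fin s) K) M) := by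
    intro n
    induction n with
    | zero => intro g _; simp
    | succ n ih =>
      intro g hg
      rw [pow_succ] at hg
      induction hg using Submodule.mul_induction_on' with
      | mem_mul_mem a ha b hb =>
        rw [Derivation.leibniz]
        refine add_mem (Submodule.smul_mem_smul ha trivial) ?_
        have h1 := Submodule.smul_mem_smul hb (ih a ha)
        rwa [← Submodule.smul_assoc, smul_eq_mul, ← pow_succ'] at h1
      | add a _ b _ ha hb => rw [map_add]; exact add_mem ha hb
  have hmem : ∀ n, δ g ∈ m ^ n • (⊤ : Submodule (MvPowerSeries (Fin s) K) M) := by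
    intro n
    let P := truncTotal (n + 1) g
    have hP : δ (P : MvPowerSeries (Fin s) K) = 0 := by
      show δ (MvPolynomial.coeToMvPowerSeries.ringHom P) = 0
      rw [MvPolynomial.as_sum P, map_sum, map_sum]
      refine Finset.sum_eq_zero fun e he => ?_
      show δ ((MvPolynomial.monomial e (MvPolynomial.coeff e P) : MvPolynomial (Fin s) K) :
        MvPowerSeries (Fin s) K) = 0
      rw [MvPolynomial.coe_monomial]
      rw [MvPolynomial.mem_support_iff] at he
      simp only [P, coeff_truncTotal_eq_ite] at he ⊢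
      split_ifs at he ⊢ with hdeg
      · have hdvd : ∀ i, p ∣ e i := by
          by_contra hn
          exact he ((hg e).2 hn)
        obtain ⟨e', rfl⟩ : ∃ e', e = p • e' :=
          ⟨e.mapRange (· / p) (by simp), by ext i; simp [Nat.mul_div_cancel' (hdvd i)]⟩
        have heq : monomial (p • e') (coeff (p • e') g) = C (coeff (p • e') g) * monomial e' 1 ^ p := by
          rw [monomial_pow, one_pow, ← monomial_zero_eq_C_apply, monomial_mul_monomial, zero_add, mul_one]
        have hzero : ∀ x : M, p • x = 0 := fun x => by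
          rw [← Nat.cast_smul_eq_nsmul (MvPowerSeries (Fin s) K) p x, CharP.cast_eq_zero, zero_smul]
        rw [heq, Derivation.leibniz, hδ _ (hg _).1, smul_zero, add_zero, Derivation.leibniz_pow,
          hzero, smul_zero]
      · simp
    have hq' : g - (P : MvPowerSeries (Fin s) K) ∈ m ^ (n + 1) := by
      rw [show m = PSLib.vars s K from PSLib.maximalIdeal_eq_vars K s]
      exact PSLib.mem_pow_iff.2 fun d hd => by
        rw [map_sub, MvPolynomial.coeff_coe, coeff_truncTotal _ hd, sub_self]
    have := hpow n _ hq'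
    rwa [map_sub, hP, sub_zero] at this
  have h0 : δ g ∈ (⨅ n : ℕ, m ^ n • (⊤ : Submodule (MvPowerSeries (Fin s) K) M)) :=
    Submodule.mem_iInf _ |>.2 hmem
  rw [Ideal.iInf_pow_smul_eq_bot_of_isLocalRing _ (IsLocalRing.maximalIdeal.isMaximal _).ne_top,
    Submodule.mem_bot] at h0
  exact h0

/-- A series whose coefficients are `p`th powers supported on multiples of `p` is a `p`th power. -/
theorem exists_root (g : MvPowerSeries (Fin s) K)
    (hcoef : ∀ m, ∃ a : K, a ^ p = coeff m g) (hdvd : ∀ m, ¬(∀ i, p ∣ m i) → coeff m g = 0) :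
    ∃ h : MvPowerSeries (Fin s) K, h ^ p = g := by
  classical
  have hp : p.Prime := Fact.out
  choose a ha using hcoef
  let h : MvPowerSeries (Fin s) K := fun m => a (p • m)
  refine ⟨h, ?_⟩
  rw [← map_frobenius_expand p hp.ne_zero]
  ext m
  rw [coeff_map]
  by_cases hm : ∀ i, p ∣ m i
  · obtain ⟨m', rfl⟩ : ∃ m', m = p • m' :=
      ⟨m.mapRange (· / p) (by simp), by ext i; simp [Nat.mul_div_cancel' (hm i)]⟩
    rw [coeff_expand_smul, frobenius_def]
    exact ha _
  · obtain ⟨i, hi⟩ := not_forall.mp hm
    rw [coeff_expand_of_not_dvd p hp.ne_zero h hi, map_zero, hdvd m hm]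

end H1JacAbs
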