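import Mathlib
import Groth.Agent.H1JacAbs.Coeff
import Groth.Agent.H1PS.Family
import Groth.Agent.H1JacPS.Crit
import Groth.Agent.Cohen4.Struct
import Groth.Agent.CplFib6.DerivTower
import Groth.Agent.S0564

/-!
# The absolute Jacobian criterion for power series rings in characteristic `p`

Elements of `k⟦T⟧` whose differentials are independent at a prime are detected there by derivations
of `k⟦T⟧` into itself.
-/

set_option autoImplicit false
set_option backward.isDefEq.respectTransparency false
set_option backward.isDefEq.respectTransparency.types false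

universe u

open Groth.Agent IsLocalRing MvPowerSeries

namespace H1JacAbs

variable {K : Type u} [Field K] {r : ℕ} (P : Ideal (MvPowerSeries (Fin r) K)) [P.IsPrime]
  (L : Type u) [Field L] [Algebra (MvPowerSeries (Fin r) K) L]
  [Algebra (MvPowerSeries (Fin r) K ⧸ P) L]
  [IsScalarTower (MvPowerSeries (Fin r) K) (MvPowerSeries (Fin r) K ⧸ P) L]
  [IsFractionRing (MvPowerSeries (Fin r) K ⧸ P) L]

omit [P.IsPrime] [IsFractionRing (MvPowerSeries (Fin r) K ⧸ P) L] in
theorem algebraMap_eq (a : MvPowerSeries (Fin r) K) :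
    algebraMap (MvPowerSeries (Fin r) K) L a =
      algebraMap (MvPowerSeries (Fin r) K ⧸ P) L (Ideal.Quotient.mk P a) :=
  IsScalarTower.algebraMap_apply _ _ L a

theorem algebraMap_ne_zero {a : MvPowerSeries (Fin r) K} (ha : a ∉ P) :
    algebraMap (MvPowerSeries (Fin r) K) L a ≠ 0 := by
  rw [algebraMap_eq P L]
  exact (map_ne_zero_iff _ (IsFractionRing.injective _ L)).2 fun h => ha (Ideal.Quotient.eq_zero_iff_mem.1 h)

omit [IsFractionRing (MvPowerSeries (Fin r) K ⧸ P) L] [P.IsPrime] in
theorem algebraMap_eq_zero {a : MvPowerSeries (Fin r) K} (ha : a ∈ P) :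
    algebraMap (MvPowerSeries (Fin r) K) L a = 0 := by
  rw [algebraMap_eq P L, Ideal.Quotient.eq_zero_iff_mem.2 ha, map_zero]

/-- A derivation killing the prime extends to the field. -/
theorem exists_quot_derivation (δ : Derivation ℤ (MvPowerSeries (Fin r) K) L) (hδ : ∀ a ∈ P, δ a = 0) :
    ∃ δ' : Derivation ℤ L L, ∀ a, δ' (algebraMap (MvPowerSeries (Fin r) K) L a) = δ a := by
  let ψ : MvPowerSeries (Fin r) K →+* TrivSqZeroExt L L :=
    { toFun := fun a => TrivSqZeroExt.inl (algebraMap (MvPowerSeries (Fin r) K) L a) + TrivSqZeroExt.inr (δ a)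
      map_one' := by simp
      map_zero' := by simp
      map_add' := fun a b => by
        rw [map_add, map_add, TrivSqZeroExt.inl_add, TrivSqZeroExt.inr_add]; abel
      map_mul' := fun a b => by
        refine TrivSqZeroExt.ext ?_ ?_
        · simp only [TrivSqZeroExt.fst_mul, TrivSqZeroExt.fst_add, TrivSqZeroExt.fst_inl,
            TrivSqZeroExt.fst_inr, map_mul, add_zero]
        · simp only [TrivSqZeroExt.snd_mul, TrivSqZeroExt.fst_add, TrivSqZeroExt.fst_inl, TrivSqZeroExt.fst_inr,
            TrivSqZeroExt.snd_add, TrivSqZeroExt.snd_inl, TrivSqZeroExt.snd_inr, op_smul_eq_smul,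
            Derivation.leibniz, Algebra.smul_def, Algebra.algebraMap_self, RingHom.id_apply]
          ring }
  let ψ' : MvPowerSeries (Fin r) K ⧸ P →+* TrivSqZeroExt L L := Ideal.Quotient.lift P ψ fun a ha => by
    show TrivSqZeroExt.inl (algebraMap (MvPowerSeries (Fin r) K) L a) + TrivSqZeroExt.inr (δ a) = 0
    rw [algebraMap_eq_zero P L ha, hδ a ha, TrivSqZeroExt.inl_zero, TrivSqZeroExt.inr_zero, add_zero]
  have hfst : ∀ a, (ψ' (Ideal.Quotient.mk P a)).fst =
      algebraMap (MvPowerSeries (Fin r) K ⧸ P) L (Ideal.Quotient.mk P a) := fun a => by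
    rw [← algebraMap_eq P L]
    simp [ψ', ψ]
  have hu : ∀ m : nonZeroDivisors (MvPowerSeries (Fin r) K ⧸ P), IsUnit (ψ' m) := by
    rintro ⟨m, hm⟩
    obtain ⟨a, rfl⟩ := Ideal.Quotient.mk_surjective m
    rw [TrivSqZeroExt.isUnit_iff_isUnit_fst, hfst]
    exact (IsFractionRing.to_map_ne_zero_of_mem_nonZeroDivisors hm).isUnit
  let χ : L →+* TrivSqZeroExt L L := IsLocalization.lift hu
  have h : ∀ x, (χ x).fst = x := by
    intro x
    have : ((TrivSqZeroExt.fstHom L L L).toRingHom.comp χ) = RingHom.id L :=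
      IsLocalization.ringHom_ext (nonZeroDivisors (MvPowerSeries (Fin r) K ⧸ P))
        (Ideal.Quotient.ringHom_ext (RingHom.ext fun a => by
          show (χ (algebraMap (MvPowerSeries (Fin r) K ⧸ P) L (Ideal.Quotient.mk P a))).fst = _
          rw [IsLocalization.lift_eq, hfst]
          rfl))
    exact RingHom.congr_fun this x
  obtain ⟨D', hD'⟩ := CplFib6.exists_derivation_of_hom χ h
  refine ⟨D', fun a => ?_⟩
  rw [hD', algebraMap_eq P L, IsLocalization.lift_eq]
  simp [ψ', ψ]

/-- A derivation killing generators of the localized prime kills the prime. -/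
theorem derivation_kills {h : ℕ} (y : Fin h → P)
    (hy : Submodule.span (ResidueField (Localization.AtPrime P)) (Set.range fun j => H1JacPS.cls P (y j)) = ⊤)
    (δ : Derivation ℤ (MvPowerSeries (Fin r) K) L)
    (hδ : ∀ j, δ (y j : MvPowerSeries (Fin r) K) = 0) : ∀ a ∈ P, δ a = 0 := by
  intro a ha
  have hgen : Ideal.span (Set.range fun j => algebraMap (MvPowerSeries (Fin r) K) (Localization.AtPrime P)
      (y j : MvPowerSeries (Fin r) K)) = maximalIdeal (Localization.AtPrime P) :=
    Groth.Agent.HomDimLib.span_eq_of_toCotangent_eq_top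
      (fun j => (⟨_, H1JacPS.mem_maximal P (y j).2⟩ : maximalIdeal (Localization.AtPrime P))) hy
  have ha' : algebraMap (MvPowerSeries (Fin r) K) (Localization.AtPrime P) a ∈
      (Ideal.span (Set.range fun j => (y j : MvPowerSeries (Fin r) K))).map
        (algebraMap (MvPowerSeries (Fin r) K) (Localization.AtPrime P)) := by
    rw [Ideal.map_span, ← Set.range_comp]
    exact hgen.ge (H1JacPS.mem_maximal P ha)
  obtain ⟨u, hu, hu'⟩ := (IsLocalization.algebraMap_mem_map_algebraMap_iff P.primeCompl
    (Localization.AtPrime P) _ _).1 ha'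
  obtain ⟨c, hc⟩ := Ideal.mem_span_range_iff_exists_fun.1 hu'
  have h1 := congrArg δ hc
  rw [map_sum, Derivation.leibniz, Algebra.smul_def, Algebra.smul_def, algebraMap_eq_zero P L ha,
    zero_mul, add_zero] at h1
  rw [Finset.sum_eq_zero fun j _ => by
    rw [Derivation.leibniz, hδ, smul_zero, zero_add, Algebra.smul_def, algebraMap_eq_zero P L (y j).2,
      zero_mul]] at h1
  exact (mul_eq_zero.1 h1.symm).resolve_left (algebraMap_ne_zero P L hu)

/-- The derivations of a presentation: the partial derivatives and given derivations of the coefficients. -/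
noncomputable def derFam {t : ℕ} (Dk : Fin t → Derivation ℤ K K) :
    Fin r ⊕ Fin t → Derivation ℤ (MvPowerSeries (Fin r) K) (MvPowerSeries (Fin r) K) :=
  Sum.elim (fun i => Derivation.mk' (pderiv K i).toLinearMap.toAddMonoidHom.toIntLinearMap
    fun a b => (pderiv K i).leibniz a b) (fun c => cder (Dk c))

/-- A combination of the derivations, with values in the field. -/
noncomputable def combDer {t : ℕ} (Dk : Fin t → Derivation ℤ K K) (v : Fin r ⊕ Fin t → L) :
    Derivation ℤ (MvPowerSeries (Fin r) K) L :=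
  ∑ a, v a • (Algebra.linearMap (MvPowerSeries (Fin r) K) L).compDer (derFam (r := r) Dk a)

omit [P.IsPrime] [Algebra (MvPowerSeries (Fin r) K ⧸ P) L]
  [IsScalarTower (MvPowerSeries (Fin r) K) (MvPowerSeries (Fin r) K ⧸ P) L]
  [IsFractionRing (MvPowerSeries (Fin r) K ⧸ P) L] in
theorem combDer_apply {t : ℕ} (Dk : Fin t → Derivation ℤ K K) (v : Fin r ⊕ Fin t → L)
    (f : MvPowerSeries (Fin r) K) :
    combDer L Dk v f = ∑ a, v a * algebraMap (MvPowerSeries (Fin r) K) L (derFam (r := r) Dk a f) := by
  classical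
  have key : ∀ t' : Finset (Fin r ⊕ Fin t),
      (∑ a ∈ t', v a • (Algebra.linearMap (MvPowerSeries (Fin r) K) L).compDer (derFam (r := r) Dk a)) f
        = ∑ a ∈ t', v a * algebraMap (MvPowerSeries (Fin r) K) L (derFam (r := r) Dk a f) := by
    intro t'
    induction t' using Finset.induction with
    | empty => simp
    | insert a u ha ih =>
      rw [Finset.sum_insert ha, Finset.sum_insert ha, Derivation.add_apply, ih]
      rfl
  exact key Finset.univ

omit [P.IsPrime] [Algebra (MvPowerSeries (Fin r) K ⧸ P) L]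
  [IsScalarTower (MvPowerSeries (Fin r) K) (MvPowerSeries (Fin r) K ⧸ P) L]
  [IsFractionRing (MvPowerSeries (Fin r) K ⧸ P) L] in
theorem combDer_X {t : ℕ} (Dk : Fin t → Derivation ℤ K K) (v : Fin r ⊕ Fin t → L) (i : Fin r) :
    combDer L Dk v (X i) = v (Sum.inl i) := by
  rw [combDer_apply, Finset.sum_eq_single (Sum.inl i)]
  · simp [derFam]
  · rintro (l | c) - hne
    · have hl : i ≠ l := fun h => hne (by rw [h])
      simp [derFam, pderiv_X_of_ne hl]
    · simp [derFam, cder_X]
  · simp

omit [P.IsPrime] [Algebra (MvPowerSeries (Fin r) K ⧸ P) L]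
  [IsScalarTower (MvPowerSeries (Fin r) K) (MvPowerSeries (Fin r) K ⧸ P) L]
  [IsFractionRing (MvPowerSeries (Fin r) K ⧸ P) L] in
theorem combDer_C {t : ℕ} (Dk : Fin t → Derivation ℤ K K) (v : Fin r ⊕ Fin t → L) (b : K) :
    combDer L Dk v (C b) =
      ∑ c, v (Sum.inr c) * algebraMap (MvPowerSeries (Fin r) K) L (C (Dk c b)) := by
  rw [combDer_apply, Fintype.sum_sum_type]
  simp [derFam, cder_C]

section Normalized

variable (p : ℕ) [Fact p.Prime] [CharP K p] {s : ℕ}
  [Algebra (MvPowerSeries (Fin s) K) (MvPowerSeries (Fin r) K ⧸ P)]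
  [IsScalarTower K (MvPowerSeries (Fin s) K) (MvPowerSeries (Fin r) K ⧸ P)]
  [Module.Finite (MvPowerSeries (Fin s) K) (MvPowerSeries (Fin r) K ⧸ P)]
  (φ : FractionRing (MvPowerSeries (Fin s) K) →+* L)
  (hφ : ∀ g, φ (algebraMap _ _ g) =
    algebraMap (MvPowerSeries (Fin r) K ⧸ P) L (algebraMap (MvPowerSeries (Fin s) K) _ g))

/-- The subfield of the fraction field generated by the restricted series. -/
noncomputable def serField (F : Subfield K) : Subfield L :=
  (Subfield.closure (algebraMap (MvPowerSeries (Fin s) K) (FractionRing (MvPowerSeries (Fin s) K)) ''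
    (H1PS.ser F {m : Fin s →₀ ℕ | ∀ i, p ∣ m i} (H1PS.isExpSet_dvd p) : Set (MvPowerSeries (Fin s) K)))).map φ

include hφ in
/-- A combination killing the prime induces a derivation killing the restricted series. -/
theorem exists_induced {t : ℕ} (Dk : Fin t → Derivation ℤ K K) (F : Subfield K)
    (hF : ∀ c, ∀ x ∈ F, Dk c x = 0) (v : Fin r ⊕ Fin t → L) (hv : ∀ a ∈ P, combDer L Dk v a = 0) :
    ∃ δ : Derivation ℤ L L, (∀ a, δ (algebraMap (MvPowerSeries (Fin r) K) L a) = combDer L Dk v a) ∧
      ∀ x ∈ serField L p φ F, δ x = 0 := by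
  classical
  obtain ⟨δ, hδ⟩ := exists_quot_derivation P L _ hv
  refine ⟨δ, hδ, ?_⟩
  let mk := Ideal.Quotient.mk P
  obtain ⟨b, hb⟩ := IsLocalization.exist_integer_multiples
    (nonZeroDivisors (MvPowerSeries (Fin r) K ⧸ P)) (Finset.univ : Finset (Fin r ⊕ Fin t)) v
  choose w hw using fun i => hb i (Finset.mem_univ i)
  have hb0 : algebraMap (MvPowerSeries (Fin r) K ⧸ P) L b ≠ 0 :=
    IsFractionRing.to_map_ne_zero_of_mem_nonZeroDivisors b.2
  let D : MvPowerSeries (Fin r) K →+ MvPowerSeries (Fin r) K ⧸ P :=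
    ∑ a, (AddMonoidHom.mulLeft (w a)).comp (mk.toAddMonoidHom.comp (derFam (r := r) Dk a).toLinearMap.toAddMonoidHom)
  have hD : ∀ f, D f = ∑ a, w a * mk (derFam (r := r) Dk a f) := fun f => by
    simp [D, AddMonoidHom.finsetSum_apply]
  have hDL : ∀ f, algebraMap (MvPowerSeries (Fin r) K ⧸ P) L (D f)
      = algebraMap (MvPowerSeries (Fin r) K ⧸ P) L b * combDer L Dk v f := by
    intro f
    rw [hD, map_sum, combDer_apply, Finset.mul_sum]
    refine Finset.sum_congr rfl fun a _ => ?_
    rw [map_mul, ← mul_assoc, hw a, Algebra.smul_def, algebraMap_eq P L]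
  have hinjL : Function.Injective (algebraMap (MvPowerSeries (Fin r) K ⧸ P) L) :=
    IsFractionRing.injective _ _
  have hmk : ∀ a, algebraMap (MvPowerSeries (Fin r) K ⧸ P) L (mk a) = algebraMap (MvPowerSeries (Fin r) K) L a :=
    fun a => (algebraMap_eq P L a).symm
  -- the derivation of the quotient
  let dbar : MvPowerSeries (Fin r) K ⧸ P → MvPowerSeries (Fin r) K ⧸ P :=
    fun x => D (Function.surjInv Ideal.Quotient.mk_surjective x)
  have hdL : ∀ x, algebraMap (MvPowerSeries (Fin r) K ⧸ P) L (dbar x)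
      = algebraMap (MvPowerSeries (Fin r) K ⧸ P) L b * δ (algebraMap (MvPowerSeries (Fin r) K ⧸ P) L x) := fun x => by
    conv_rhs => rw [← Function.surjInv_eq Ideal.Quotient.mk_surjective x]
    rw [hmk, hδ]
    exact hDL _
  let dadd : MvPowerSeries (Fin r) K ⧸ P →+ MvPowerSeries (Fin r) K ⧸ P :=
    AddMonoidHom.mk' dbar fun x y => hinjL (by rw [map_add, hdL, hdL, hdL, map_add, map_add, mul_add])
  let δR : Derivation ℤ (MvPowerSeries (Fin r) K ⧸ P) (MvPowerSeries (Fin r) K ⧸ P) :=
    Derivation.mk' dadd.toIntLinearMap fun x y => hinjL (by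
      show algebraMap (MvPowerSeries (Fin r) K ⧸ P) L (dbar (x * y)) = algebraMap _ L (x * dbar y + y * dbar x)
      rw [map_add, map_mul, map_mul, hdL, hdL, hdL, map_mul, Derivation.leibniz, smul_eq_mul, smul_eq_mul]
      ring)
  haveI : IsScalarTower ℤ (MvPowerSeries (Fin s) K) (MvPowerSeries (Fin r) K ⧸ P) :=
    IsScalarTower.of_algebraMap_eq' (RingHom.ext_int _ _)
  let δC : Derivation ℤ (MvPowerSeries (Fin s) K) (MvPowerSeries (Fin r) K ⧸ P) :=
    δR.compAlgebraMap (MvPowerSeries (Fin s) K)
  have hC : ∀ c ∈ F, δC (C c) = 0 := by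
    intro c hc
    apply hinjL
    show algebraMap (MvPowerSeries (Fin r) K ⧸ P) L
      (dbar (algebraMap (MvPowerSeries (Fin s) K) (MvPowerSeries (Fin r) K ⧸ P) (C c))) = _
    have he : algebraMap (MvPowerSeries (Fin s) K) (MvPowerSeries (Fin r) K ⧸ P) (C c) = mk (C c) := by
      rw [show (C c : MvPowerSeries (Fin s) K) = algebraMap K _ c by simp [MvPowerSeries.algebraMap_apply],
        ← IsScalarTower.algebraMap_apply, show (C c : MvPowerSeries (Fin r) K) = algebraMap K _ c by
          simp [MvPowerSeries.algebraMap_apply]]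
      rfl
    rw [hdL, he, hmk, hδ, combDer_C, map_zero, Finset.sum_eq_zero fun l _ => by rw [hF l c hc]; simp, mul_zero]
  have hker : (Subfield.closure (algebraMap (MvPowerSeries (Fin s) K) (FractionRing (MvPowerSeries (Fin s) K)) ''
      (H1PS.ser F {m : Fin s →₀ ℕ | ∀ i, p ∣ m i} (H1PS.isExpSet_dvd p) : Set (MvPowerSeries (Fin s) K)))).map φ ≤ kerField δ := by
    rw [RingHom.map_field_closure, Subfield.closure_le]
    rintro _ ⟨_, ⟨g, hg, rfl⟩, rfl⟩
    have h0 : δC g = 0 := derivation_ser p F δC hC g hg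
    have h1 := hdL (algebraMap (MvPowerSeries (Fin s) K) (MvPowerSeries (Fin r) K ⧸ P) g)
    rw [show dbar (algebraMap (MvPowerSeries (Fin s) K) (MvPowerSeries (Fin r) K ⧸ P) g) = δC g from rfl,
      h0, map_zero] at h1
    show δ (φ _) = 0
    rw [hφ]
    exact (mul_eq_zero.1 h1.symm).resolve_left hb0
  exact fun x hx => hker hx

variable {d : ℕ} (e : Fin d → L) (hd : ∀ y : L, Comb φ.fieldRange e y)

include hd in
/-- The degree over the field of the restricted series. -/
theorem finrank_le {t : ℕ} (F : Subfield K) (hFp : ∀ c : K, c ^ p ∈ F) [FiniteDimensional F K]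
    (ht : Module.finrank F K = p ^ t) :
    ∃ _ : FiniteDimensional (serField L p φ F) L,
      Module.finrank (serField L p φ F) L ≤ d * p ^ (s + t) := by
  classical
  set F0 := serField L p φ F with hF0
  let bK := Module.finBasisOfFinrankEq F K ht
  have hc : ∀ y, Comb F (fun i => bK i) y := fun y =>
    ⟨fun i => (bK.repr y i : K), fun i => (bK.repr y i).2, bK.sum_repr y⟩
  let mon : (Fin s → Fin p) × Fin (p ^ t) → L := fun x => φ (algebraMap _ _
    (monomial (Finsupp.equivFunOnFinite.symm fun i => (x.1 i : ℕ)) (bK x.2)))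
  let gen : ((Fin s → Fin p) × Fin (p ^ t)) × Fin d → L := fun x => mon x.1 * e x.2
  have hser : ∀ g ∈ H1PS.ser F {m : Fin s →₀ ℕ | ∀ i, p ∣ m i} (H1PS.isExpSet_dvd p),
      φ (algebraMap _ _ g) ∈ F0 := fun g hg => ⟨_, Subfield.subset_closure ⟨g, hg, rfl⟩, rfl⟩
  have key : ∀ (m : FractionRing (MvPowerSeries (Fin s) K)) (j : Fin d),
      φ m * e j ∈ Submodule.span F0 (Set.range gen) := by
    intro m j
    obtain ⟨f, g, hg, rfl⟩ := IsFractionRing.div_surjective (MvPowerSeries (Fin s) K) m
    obtain ⟨G, hG, hfG⟩ := exists_decomp p F (fun i => bK i) hc (f * g ^ (p - 1))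
    have hgp : g ^ p ∈ H1PS.ser F {m : Fin s →₀ ℕ | ∀ i, p ∣ m i} (H1PS.isExpSet_dvd p) := by
      haveI : ExpChar K p := .prime Fact.out
      simpa using H1PS.pow_mem_ser 1 p F (by simpa using hFp) g
    have hg0 : algebraMap (MvPowerSeries (Fin s) K) (FractionRing (MvPowerSeries (Fin s) K)) g ≠ 0 :=
      IsFractionRing.to_map_ne_zero_of_mem_nonZeroDivisors hg
    have heq : φ (algebraMap _ _ f / algebraMap _ _ g) =
        φ (algebraMap _ _ (f * g ^ (p - 1))) / φ (algebraMap _ _ (g ^ p)) := by
      rw [← map_div₀ φ]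
      congr 1
      rw [map_mul, map_pow, map_pow, div_eq_div_iff hg0 (pow_ne_zero _ hg0), mul_assoc]
      congr 1
      rw [← pow_succ, Nat.sub_add_cancel (Fact.out : p.Prime).pos]
    rw [heq, hfG, map_sum, map_sum, Finset.sum_div, Finset.sum_mul]
    refine Submodule.sum_mem _ fun x _ => ?_
    have hcoef : φ (algebraMap _ _ (G x)) / φ (algebraMap _ _ (g ^ p)) ∈ F0 :=
      div_mem (hser _ (hG x)) (hser _ hgp)
    have := Submodule.smul_mem (Submodule.span F0 (Set.range gen)) (⟨_, hcoef⟩ : F0)
      (Submodule.subset_span ⟨(x, j), rfl⟩)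
    convert this using 1
    show _ = _ * gen (x, j)
    simp only [gen, mon, map_mul]
    ring
  have htop : Submodule.span F0 (Set.range gen) = ⊤ := by
    rw [eq_top_iff]
    intro y _
    obtain ⟨c, hcm, rfl⟩ := hd y
    refine Submodule.sum_mem _ fun j _ => ?_
    obtain ⟨m, hm⟩ := hcm j
    rw [← hm]
    exact key m j
  refine ⟨⟨htop ▸ Submodule.fg_span (Set.finite_range gen)⟩, ?_⟩
  have h1 := finrank_range_le_card (R := F0) gen
  rw [Set.finrank, htop, finrank_top] at h1
  refine h1.trans (le_of_eq ?_)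
  simp [pow_add]
  ring

variable [CharP L p]

include hφ hd in
/-- Every derivation matches a combination on the prime, and every derivation killing the restricted
series is induced by a combination. -/
theorem exists_vec {t : ℕ} (Dk : Fin t → Derivation ℤ K K) (bk : Fin t → K) (F : Subfield K)
    (hFp : ∀ c : K, c ^ p ∈ F) [FiniteDimensional F K] (ht : Module.finrank F K = p ^ t)
    (hF : ∀ c, ∀ x ∈ F, Dk c x = 0) (hdual : ∀ a c, Dk a (bk c) = if a = c then 1 else 0)
    (hinj : Function.Injective (algebraMap (MvPowerSeries (Fin s) K) (MvPowerSeries (Fin r) K ⧸ P)))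
    (hindep : Indep (serField L p φ F) fun j => e j ^ p) :
    (∀ δ : Derivation ℤ (MvPowerSeries (Fin r) K) L, ∃ v : Fin r ⊕ Fin t → L,
        ∀ a ∈ P, combDer L Dk v a = δ a) ∧
      ∀ δ : Derivation ℤ L L, (∀ x ∈ serField L p φ F, δ x = 0) → ∃ v : Fin r ⊕ Fin t → L,
        ∀ a, combDer L Dk v a = δ (algebraMap (MvPowerSeries (Fin r) K) L a) := by
  classical
  haveI : IsRegularLocalRing (Localization.AtPrime P) := Groth.Agent.S0564.result _ P
  -- generators of the localized prime
  obtain ⟨B, hBsub, hBspan, hBli⟩ := exists_linearIndependent (ResidueField (Localization.AtPrime P))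
    (Set.range (H1JacPS.cls P))
  haveI : Fintype B := (LinearIndependent.setFinite hBli).fintype
  rw [H1JacPS.span_cls P] at hBspan
  have hcard : Fintype.card B =
      Module.finrank (ResidueField (Localization.AtPrime P)) (CotangentSpace (Localization.AtPrime P)) := by
    rw [← finrank_top (R := ResidueField (Localization.AtPrime P)) (M := CotangentSpace (Localization.AtPrime P)), ← hBspan]
    exact ((finrank_span_set_eq_card hBli).trans (by simp)).symm
  have hrs := H1JacPS.finrank_cotangent_add P (s := s) hinj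
  let eB : Fin (Fintype.card B) ≃ B := (Fintype.equivFin B).symm
  choose y hy using fun j => hBsub (eB j).2
  have hyspan : Submodule.span (ResidueField (Localization.AtPrime P))
      (Set.range fun j => H1JacPS.cls P (y j)) = ⊤ := by
    rw [show (fun j => H1JacPS.cls P (y j)) = ((↑) : B → CotangentSpace (Localization.AtPrime P)) ∘ eB from funext hy,
      Set.range_comp, eB.surjective.range_eq, Set.image_univ, Subtype.range_coe, hBspan]
  -- the field generated by the series and the powers
  obtain ⟨hfin, hle⟩ := finrank_le L p φ e hd F hFp ht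
  set F0 := serField L p φ F with hF0
  set E := IntermediateField.adjoin F0 (Set.range fun a : L => a ^ p) with hE
  have hEd : d ≤ Module.finrank F0 E := by
    have hli : LinearIndependent F0 fun j => (⟨e j ^ p, IntermediateField.subset_adjoin _ _ ⟨e j, rfl⟩⟩ : E) := by
      rw [Fintype.linearIndependent_iff]
      intro c hc j
      have h1 := congrArg Subtype.val hc
      simp only [AddSubmonoidClass.coe_finsetSum, ZeroMemClass.coe_zero] at h1
      exact Subtype.ext (hindep (fun j => (c j : L)) (fun j => (c j).2) h1 j)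
    have := hli.fintype_card_le_finrank
    rwa [Fintype.card_fin] at this
  have hd0 : 0 < d := by
    by_contra h
    obtain ⟨c, -, hc⟩ := hd 1
    obtain rfl : d = 0 := by omega
    simp at hc
  have hEL : Module.finrank E L ≤ p ^ (s + t) := by
    have hmul := Module.finrank_mul_finrank F0 E L
    suffices h : d * Module.finrank E L ≤ d * p ^ (s + t) from Nat.le_of_mul_le_mul_left h hd0
    calc d * Module.finrank E L ≤ Module.finrank F0 E * Module.finrank E L := Nat.mul_le_mul_right _ hEd
      _ = Module.finrank F0 L := hmul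
      _ ≤ d * p ^ (s + t) := hle
  obtain ⟨n, z, Dz, hn, -, hext⟩ := exists_gen p _ E (le_refl (Module.finrank E L))
    fun a => ⟨⟨a ^ p, IntermediateField.subset_adjoin _ _ ⟨a, rfl⟩⟩, rfl⟩
  have hnst : n ≤ s + t := by
    rw [hn] at hEL
    exact (Nat.pow_le_pow_iff_right (Fact.out : p.Prime).two_le).1 hEL
  have hkill : ∀ δ : Derivation ℤ L L, (∀ x ∈ F0, δ x = 0) → (∀ c, δ (z c) = 0) → δ = 0 := by
    intro δ hδ hz
    have hE' : ∀ x : E, δ (x : L) = 0 := by
      intro x
      have : Subfield.closure (Set.range (algebraMap F0 L) ∪ Set.range fun a : L => a ^ p) ≤ kerField δ :=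
        Subfield.closure_le.2 (by
          rintro x (⟨a, rfl⟩ | ⟨a, rfl⟩)
          · exact hδ _ a.2
          · exact derivation_pow p δ a)
      exact this x.2
    let δ' : Derivation E L L := Derivation.mk'
      { toFun := δ, map_add' := map_add δ, map_smul' := fun x a => by
          rw [Algebra.smul_def, Derivation.leibniz, show algebraMap E L x = (x : L) from rfl, hE',
            smul_zero, add_zero]
          rfl }
      fun a b => δ.leibniz a b
    ext w
    exact DFunLike.congr_fun (hext δ' hz) w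
  -- evaluation at the generators
  let ev : (Fin r ⊕ Fin t → L) →ₗ[L] (Fin (Fintype.card B) → L) :=
    { toFun := fun v j => combDer L Dk v (y j : MvPowerSeries (Fin r) K)
      map_add' := fun v w => by
        funext j; simp [combDer_apply, add_mul, Finset.sum_add_distrib]
      map_smul' := fun c v => by
        funext j; simp [combDer_apply, Finset.mul_sum, mul_assoc, mul_add] }
  have hkerP : ∀ v ∈ LinearMap.ker ev, ∀ a ∈ P, combDer L Dk v a = 0 := fun v hv =>
    derivation_kills P L y hyspan _ fun j => congrFun hv j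
  have hfrac : ∀ x : L, ∃ a b : MvPowerSeries (Fin r) K, b ∉ P ∧
      x * algebraMap (MvPowerSeries (Fin r) K) L b = algebraMap (MvPowerSeries (Fin r) K) L a := by
    intro x
    obtain ⟨a, b, hb, rfl⟩ := IsFractionRing.div_surjective (MvPowerSeries (Fin r) K ⧸ P) x
    obtain ⟨a, rfl⟩ := Ideal.Quotient.mk_surjective a
    obtain ⟨b, rfl⟩ := Ideal.Quotient.mk_surjective b
    refine ⟨a, b, fun h => nonZeroDivisors.ne_zero hb (Ideal.Quotient.eq_zero_iff_mem.2 h), ?_⟩
    rw [algebraMap_eq P L, algebraMap_eq P L, div_mul_cancel₀]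
    exact IsFractionRing.to_map_ne_zero_of_mem_nonZeroDivisors hb
  choose za zb hzb hz using fun c => hfrac (z c)
  let T : LinearMap.ker ev →ₗ[L] (Fin n → L) :=
    { toFun := fun v c => (algebraMap (MvPowerSeries (Fin r) K) L (zb c))⁻¹ *
        (combDer L Dk v.1 (za c) - z c * combDer L Dk v.1 (zb c))
      map_add' := fun v w => by
        funext c
        simp [combDer_apply, add_mul, Finset.sum_add_distrib]
        ring
      map_smul' := fun c v => by
        funext l
        simp [combDer_apply, mul_assoc, ← Finset.mul_sum]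
        ring }
  have hT : ∀ (v : LinearMap.ker ev) (δ : Derivation ℤ L L),
      (∀ a, δ (algebraMap (MvPowerSeries (Fin r) K) L a) = combDer L Dk v.1 a) → ∀ c, δ (z c) = T v c := by
    intro v δ hδ c
    show _ = (algebraMap (MvPowerSeries (Fin r) K) L (zb c))⁻¹ * _
    rw [← hδ, ← hδ, ← hz c, Derivation.leibniz, smul_eq_mul, smul_eq_mul]
    field_simp [algebraMap_ne_zero P L (hzb c)]
    ring
  have hTinj : Function.Injective T := by
    rw [injective_iff_map_eq_zero]
    intro v hv
    obtain ⟨δ, hδ, hδF⟩ := exists_induced P L p φ hφ Dk F hF v.1 (hkerP v.1 v.2)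
    have h0 : δ = 0 := hkill δ hδF fun c => by rw [hT v δ hδ, hv]; rfl
    have hzero : ∀ a, combDer L Dk v.1 a = 0 := fun a => by rw [← hδ, h0]; rfl
    refine Subtype.ext (funext ?_)
    rintro (i | c)
    · have := hzero (X i)
      rwa [combDer_X] at this
    · have := hzero (C (bk c))
      rw [combDer_C, Finset.sum_eq_single c] at this
      · simpa [hdual] using this
      · intro l _ hl; simp [hdual, hl]
      · simp
  have h1 := LinearMap.finrank_le_finrank_of_injective hTinj
  rw [Module.finrank_fin_fun] at h1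
  have h2 := LinearMap.finrank_range_add_finrank_ker ev
  rw [Module.finrank_pi, Fintype.card_sum, Fintype.card_fin, Fintype.card_fin] at h2
  have h3 := Submodule.finrank_le (LinearMap.range ev)
  rw [Module.finrank_fin_fun] at h3
  have hevsurj : Function.Surjective ev := by
    rw [← LinearMap.range_eq_top]
    exact Submodule.eq_top_of_finrank_eq (by rw [Module.finrank_fin_fun]; omega)
  have hTsurj : Function.Surjective T :=
    (LinearMap.injective_iff_surjective_of_finrank_eq_finrank (by rw [Module.finrank_fin_fun]; omega)).1 hTinj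
  refine ⟨fun δ => ?_, fun δ hδ => ?_⟩
  · obtain ⟨v, hv⟩ := hevsurj fun j => δ (y j : MvPowerSeries (Fin r) K)
    refine ⟨v, fun a ha => ?_⟩
    have := derivation_kills P L y hyspan (combDer L Dk v - δ)
      (fun j => by rw [Derivation.sub_apply, sub_eq_zero]; exact congrFun hv j) a ha
    simpa [sub_eq_zero] using this
  · obtain ⟨v, hv⟩ := hTsurj fun c => δ (z c)
    obtain ⟨δ', hδ', hδ'F⟩ := exists_induced P L p φ hφ Dk F hF v.1 (hkerP v.1 v.2)
    have h0 : δ' - δ = 0 := hkill _ (fun x hx => by simp [hδ'F x hx, hδ x hx]) fun c => by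
      simp [hT v δ' hδ', hv]
    refine ⟨v.1, fun a => ?_⟩
    rw [← hδ', sub_eq_zero.1 h0]

end Normalized

end H1JacAbs
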