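import Mathlib
import Groth.Agent.H1JacAbs.Main
import Groth.Agent.CplFib6.Quot
import Groth.Agent.CohenLib.PowerSeries

/-!
# Independent differentials are detected by derivations of the power series ring
-/

set_option autoImplicit false
set_option backward.isDefEq.respectTransparency false
set_option backward.isDefEq.respectTransparency.types false

universe u

open Groth.Agent IsLocalRing MvPowerSeries

namespace H1JacAbs

/-- A finite field extension given by a homomorphism has a basis in coefficient form. -/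
theorem exists_basis {M L : Type u} [Field M] [Field L] (φ : M →+* L)
    (hfin : letI := φ.toAlgebra; FiniteDimensional M L) :
    ∃ (d : ℕ) (e : Fin d → L), Indep φ.fieldRange e ∧ ∀ y, Comb φ.fieldRange e y := by
  letI := φ.toAlgebra
  haveI := hfin
  let b := Module.finBasis M L
  refine ⟨_, b, fun c hc h0 j => ?_, fun y => ⟨fun j => φ (b.repr y j), fun j => ⟨_, rfl⟩, b.sum_repr y⟩⟩
  choose m hm using hc
  have : ∑ j, m j • b j = 0 := by
    rw [← h0]
    exact Finset.sum_congr rfl fun j _ => by rw [Algebra.smul_def, ← hm j]; rfl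
  rw [← hm j, Fintype.linearIndependent_iff.1 b.linearIndependent m this j, map_zero]

/-- The fraction field extension of a finite extension of domains is finite. -/
theorem finite_fractionField {C R L : Type u} [CommRing C] [IsDomain C] [CommRing R] [Algebra C R]
    [Module.Finite C R] [Field L] [Algebra R L] [IsFractionRing R L] (φ : FractionRing C →+* L)
    (hφ : ∀ g, φ (algebraMap _ _ g) = algebraMap R L (algebraMap C R g)) :
    letI := φ.toAlgebra; FiniteDimensional (FractionRing C) L := by
  classical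
  letI := φ.toAlgebra
  obtain ⟨n, g, hg⟩ := Module.Finite.exists_fin (R := C) (M := R)
  set T := IntermediateField.adjoin (FractionRing C) (Set.range fun j => algebraMap R L (g j))
  have hint : ∀ x : R, IsIntegral (FractionRing C) (algebraMap R L x) := by
    intro x
    obtain ⟨P, hP, hPx⟩ := IsIntegral.of_finite C x
    refine ⟨P.map (algebraMap C (FractionRing C)), hP.map _, ?_⟩
    rw [Polynomial.eval₂_map]
    have hc : (algebraMap (FractionRing C) L).comp (algebraMap C (FractionRing C))
        = (algebraMap R L).comp (algebraMap C R) := RingHom.ext hφ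
    rw [hc, ← Polynomial.hom_eval₂, hPx, map_zero]
  have hmem : ∀ x : R, algebraMap R L x ∈ T := by
    intro x
    have hx : x ∈ Submodule.span C (Set.range g) := hg ▸ trivial
    induction hx using Submodule.span_induction with
    | mem x hx => obtain ⟨j, rfl⟩ := hx; exact IntermediateField.subset_adjoin _ _ ⟨j, rfl⟩
    | zero => rw [map_zero]; exact zero_mem T
    | add a b _ _ ha hb => rw [map_add]; exact add_mem ha hb
    | smul c a _ ha =>
      rw [Algebra.smul_def, map_mul, ← hφ]
      exact mul_mem (T.algebraMap_mem _) ha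
  have htop : T = ⊤ := by
    refine eq_top_iff.2 fun x _ => ?_
    obtain ⟨a, b, -, rfl⟩ := IsFractionRing.div_surjective R x
    exact div_mem (hmem a) (hmem b)
  haveI : FiniteDimensional (FractionRing C) T := IntermediateField.finiteDimensional_adjoin
    (by rintro _ ⟨j, rfl⟩; exact hint (g j))
  have he := IntermediateField.topEquiv (F := FractionRing C) (E := L)
  exact Module.Finite.equiv ((IntermediateField.equivOfEq htop).trans he).toLinearEquiv

variable {K : Type u} [Field K] {r : ℕ}

/-- A family with independent differentials at a prime is separated by derivations of the ring. -/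
theorem exists_derivations (p : ℕ) [Fact p.Prime] [CharP K p]
    (P : Ideal (MvPowerSeries (Fin r) K)) [P.IsPrime]
    (L : Type u) [Field L] [Algebra (MvPowerSeries (Fin r) K) L]
    [Algebra (MvPowerSeries (Fin r) K ⧸ P) L]
    [IsScalarTower (MvPowerSeries (Fin r) K) (MvPowerSeries (Fin r) K ⧸ P) L]
    [IsFractionRing (MvPowerSeries (Fin r) K ⧸ P) L]
    {m : ℕ} (x : Fin m → MvPowerSeries (Fin r) K) (δ : Fin m → Derivation ℤ (MvPowerSeries (Fin r) K) L)
    (hdet : Matrix.det (Matrix.of fun i j => δ i (x j)) ≠ 0) :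
    ∃ D : Fin m → Derivation ℤ (MvPowerSeries (Fin r) K) (MvPowerSeries (Fin r) K),
      Matrix.det (Matrix.of fun i j => D i (x j)) ∉ P := by
  classical
  haveI := (CohenLib.isRegular_complete_mvPowerSeries (Field.toIsField K |> Or.inl) r).1
  obtain ⟨hregA, hcplA⟩ := (CohenLib.isRegular_complete_mvPowerSeries (Field.toIsField K |> Or.inl) r).2
  haveI := hcplA
  haveI : Nontrivial (MvPowerSeries (Fin r) K ⧸ P) := Ideal.Quotient.nontrivial_iff.2 (Ideal.IsPrime.ne_top inferInstance)
  haveI : IsLocalRing (MvPowerSeries (Fin r) K ⧸ P) := .of_surjective' _ Ideal.Quotient.mk_surjective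
  haveI := CplFib6.isAdicComplete_quot P
  haveI : Module.Finite K (ResidueField (MvPowerSeries (Fin r) K ⧸ P)) := by
    have hres : Function.Surjective (algebraMap K (ResidueField (MvPowerSeries (Fin r) K ⧸ P))) := by
      intro y
      obtain ⟨y, rfl⟩ := residue_surjective y
      obtain ⟨f, rfl⟩ := Ideal.Quotient.mk_surjective y
      refine ⟨constantCoeff f, ?_⟩
      rw [IsScalarTower.algebraMap_apply K (MvPowerSeries (Fin r) K ⧸ P)
        (ResidueField (MvPowerSeries (Fin r) K ⧸ P))]
      rw [show algebraMap K (MvPowerSeries (Fin r) K ⧸ P) (constantCoeff f) =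
        Ideal.Quotient.mk P (algebraMap K _ (constantCoeff f)) from rfl, ← sub_eq_zero,
        ResidueField.algebraMap_eq, ← map_sub, residue_eq_zero_iff, ← map_sub]
      by_contra hu
      have hf : algebraMap K (MvPowerSeries (Fin r) K) (constantCoeff f) - f ∈
          maximalIdeal (MvPowerSeries (Fin r) K) := by
        rw [mem_maximalIdeal, mem_nonunits_iff, MvPowerSeries.isUnit_iff_constantCoeff]
        simp [MvPowerSeries.algebraMap_apply]
      haveI : IsLocalHom (Ideal.Quotient.mk P) := .of_surjective _ Ideal.Quotient.mk_surjective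
      exact (mem_maximalIdeal _).1 hf (isUnit_of_map_unit (Ideal.Quotient.mk P) _ (not_not.1 fun h => hu ((mem_maximalIdeal _).2 h)))
    exact Module.Finite.of_surjective (Algebra.linearMap K _) hres
  obtain ⟨s, w, hwinj, -, hwfin⟩ := Cohen4.exists_normalization (k₀ := K) (A := MvPowerSeries (Fin r) K ⧸ P)
  letI : Algebra (MvPowerSeries (Fin s) K) (MvPowerSeries (Fin r) K ⧸ P) := w.toRingHom.toAlgebra
  haveI : IsScalarTower K (MvPowerSeries (Fin s) K) (MvPowerSeries (Fin r) K ⧸ P) :=
    IsScalarTower.of_algebraMap_eq fun c => (w.commutes c).symm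
  haveI : Module.Finite (MvPowerSeries (Fin s) K) (MvPowerSeries (Fin r) K ⧸ P) := hwfin
  haveI : IsDomain (MvPowerSeries (Fin s) K) := NoZeroDivisors.to_isDomain _
  have hinjRL : Function.Injective (algebraMap (MvPowerSeries (Fin r) K ⧸ P) L) := IsFractionRing.injective _ _
  let g₀ : MvPowerSeries (Fin s) K →+* L :=
    (algebraMap (MvPowerSeries (Fin r) K ⧸ P) L).comp (algebraMap (MvPowerSeries (Fin s) K) _)
  have hg₀ : Function.Injective g₀ := hinjRL.comp hwinj
  let φ : FractionRing (MvPowerSeries (Fin s) K) →+* L := IsFractionRing.lift hg₀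
  have hφ : ∀ g, φ (algebraMap _ _ g) =
      algebraMap (MvPowerSeries (Fin r) K ⧸ P) L (algebraMap (MvPowerSeries (Fin s) K) _ g) :=
    fun g => IsFractionRing.lift_algebraMap hg₀ g
  haveI : CharP L p := charP_of_injective_ringHom
    (f := g₀.comp (C (σ := Fin s) (R := K))) (hg₀.comp MvPowerSeries.C_injective) p
  obtain ⟨d, e, he, hd⟩ := exists_basis φ (finite_fractionField φ hφ)
  -- the family of subfields
  obtain ⟨ι, _, F, hdir, hfin, hpF, hinfF⟩ := H1PS.exists_family p K
  let M := FractionRing (MvPowerSeries (Fin s) K)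
  haveI : CharP M p := charP_of_injective_ringHom (f := (algebraMap (MvPowerSeries (Fin s) K) M).comp (C (σ := Fin s) (R := K)))
    ((IsFractionRing.injective (MvPowerSeries (Fin s) K) M).comp MvPowerSeries.C_injective) p
  let N : Subfield L := (φ.comp (frobenius M p)).fieldRange
  let FF : ι → Subfield L := fun i => serField L p φ (F i)
  have hmono : ∀ a b, F a ≤ F b → FF a ≤ FF b := by
    rintro a b hab _ ⟨y, hy, rfl⟩
    refine ⟨y, Subfield.closure_mono (Set.image_mono fun g hg n => ?_) hy, rfl⟩
    exact ⟨hab (hg n).1, (hg n).2⟩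
  have hdirFF : ∀ a b, ∃ c, FF c ≤ FF a ⊓ FF b := fun a b => by
    obtain ⟨c, hc⟩ := hdir a b
    exact ⟨c, le_inf (hmono c a (hc.trans inf_le_left)) (hmono c b (hc.trans inf_le_right))⟩
  haveI : ExpChar K p := .prime Fact.out
  have hpser : ∀ (g : MvPowerSeries (Fin s) K) i,
      g ^ p ∈ H1PS.ser (F i) {m : Fin s →₀ ℕ | ∀ i, p ∣ m i} (H1PS.isExpSet_dvd p) := fun g i => by
    simpa using H1PS.pow_mem_ser 1 p (F i) (by simpa using hpF i) g
  have hNF : ∀ i, N ≤ FF i := by
    rintro i _ ⟨y, rfl⟩
    obtain ⟨f, g, -, rfl⟩ := IsFractionRing.div_surjective (MvPowerSeries (Fin s) K) y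
    have hmemc : ∀ g : MvPowerSeries (Fin s) K, algebraMap _ M (g ^ p) ∈ Subfield.closure
        (algebraMap (MvPowerSeries (Fin s) K) M '' (H1PS.ser (F i) {m : Fin s →₀ ℕ | ∀ i, p ∣ m i}
          (H1PS.isExpSet_dvd p) : Set (MvPowerSeries (Fin s) K))) :=
      fun g => Subfield.subset_closure ⟨g ^ p, hpser g i, rfl⟩
    refine ⟨_, div_mem (hmemc f) (hmemc g), ?_⟩
    rw [RingHom.comp_apply, frobenius_def, div_pow, map_pow, map_pow]
  have hinf : ∀ z, (∀ i, z ∈ FF i) → z ∈ N := by
    intro z hz
    obtain ⟨y, -, rfl⟩ := hz (Classical.arbitrary ι)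
    have hy : ∀ i, y ∈ Subfield.closure (algebraMap (MvPowerSeries (Fin s) K) M ''
        (H1PS.ser (F i) {m : Fin s →₀ ℕ | ∀ i, p ∣ m i} (H1PS.isExpSet_dvd p) : Set (MvPowerSeries (Fin s) K))) := by
      intro i
      obtain ⟨y', hy', he'⟩ := hz i
      rwa [φ.injective he'] at hy'
    obtain ⟨h, g, hh, rfl⟩ := H1PS.exists_rep F _ _ p (Fact.out : p.Prime).ne_zero (fun g i => hpser g i) hy
    obtain ⟨h', rfl⟩ := exists_root p h (fun n => hinfF _ fun i => (hh i n).1)
      (fun n hn => (hh (Classical.arbitrary ι) n).2 hn)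
    refine ⟨algebraMap _ _ h' / algebraMap _ _ g, ?_⟩
    rw [RingHom.comp_apply, frobenius_def, div_pow, map_pow, map_pow]
  have hNpow : ∀ z ∈ N, ∃ a, a ^ p = z := by
    rintro _ ⟨y, rfl⟩
    exact ⟨φ y, (map_pow φ y p).symm⟩
  haveI : ExpChar L p := .prime Fact.out
  have hpow : ∀ a : L, Comb N (fun j => e j ^ p) (a ^ p) := by
    intro a
    obtain ⟨c, hc, rfl⟩ := hd a
    refine ⟨fun j => c j ^ p, fun j => ?_, ?_⟩
    · obtain ⟨y, hy⟩ := hc j
      exact ⟨y, by rw [RingHom.comp_apply, frobenius_def, map_pow, hy]⟩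
    · rw [sum_pow_char]
      exact Finset.sum_congr rfl fun j _ => (mul_pow _ _ _).symm
  have hindep : Indep N fun j => e j ^ p := by
    intro c hc h0 j
    choose y hy using hc
    have h1 : (∑ l, φ (y l) * e l) ^ p = 0 := by
      rw [sum_pow_char, ← h0]
      refine Finset.sum_congr rfl fun l _ => ?_
      rw [← hy l, mul_pow, RingHom.comp_apply, frobenius_def, map_pow]
    have h2 := he (fun l => φ (y l)) (fun l => ⟨_, rfl⟩) (pow_eq_zero_iff (Fact.out : p.Prime).ne_zero |>.1 h1) j
    rw [← hy j, RingHom.comp_apply, frobenius_def, map_pow, h2, zero_pow (Fact.out : p.Prime).ne_zero]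
  obtain ⟨i₁, hi₁⟩ := exists_indep FF hdirFF N hinf _ hindep
  obtain ⟨i₂, hi₂⟩ := exists_match p FF hdirFF N hNF hinf hNpow e hpow
    (fun j => algebraMap (MvPowerSeries (Fin r) K) L (x j))
  obtain ⟨i, hi⟩ := hdir i₁ i₂
  -- derivations of the coefficient field
  haveI := hfin i
  obtain ⟨t, bk, Dk₀, ht, hdual, -⟩ := exists_gen (L := K) p _ (F i) (le_refl (Module.finrank (F i) K))
    fun a => ⟨⟨a ^ p, hpF i a⟩, rfl⟩
  let Dk : Fin t → Derivation ℤ K K := fun c =>
    Derivation.mk' (Dk₀ c).toLinearMap.toAddMonoidHom.toIntLinearMap fun a b => (Dk₀ c).leibniz a b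
  have hF : ∀ c, ∀ z ∈ F i, Dk c z = 0 := fun c z hz => (Dk₀ c).map_algebraMap (⟨z, hz⟩ : F i)
  obtain ⟨hA, hB⟩ := exists_vec P L p φ hφ e hd Dk bk (F i) (hpF i) ht hF hdual hwinj
    (hi₁ i (hmono i i₁ (hi.trans inf_le_left)))
  -- every given derivation is matched on the family
  have key : ∀ l, ∃ v : Fin r ⊕ Fin t → L, ∀ j, combDer L Dk v (x j) = δ l (x j) := by
    intro l
    obtain ⟨v₁, hv₁⟩ := hA (δ l)
    obtain ⟨db, hdb⟩ := exists_quot_derivation P L (δ l - combDer L Dk v₁)
      fun a ha => by rw [Derivation.sub_apply, hv₁ a ha, sub_self]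
    obtain ⟨d', hd'F, hd'x⟩ := hi₂ i (hmono i i₂ (hi.trans inf_le_right)) db
    obtain ⟨v₂, hv₂⟩ := hB d' hd'F
    refine ⟨v₁ + v₂, fun j => ?_⟩
    have hadd : combDer L Dk (v₁ + v₂) (x j) = combDer L Dk v₁ (x j) + combDer L Dk v₂ (x j) := by
      simp [combDer_apply, add_mul, Finset.sum_add_distrib]
    rw [hadd, hv₂, hd'x j, hdb, Derivation.sub_apply]
    ring
  choose v hv using key
  let eqv : Fin (r + t) ≃ Fin r ⊕ Fin t := finSumFinEquiv.symm
  let col : Fin m → Fin (r + t) → L := fun j a =>
    algebraMap (MvPowerSeries (Fin r) K) L (derFam (r := r) Dk (eqv a) (x j))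
  have hcol : LinearIndependent L col := by
    rw [Fintype.linearIndependent_iff]
    intro c hc
    have hz : (Matrix.of fun i j => δ i (x j)).mulVec c = 0 := by
      funext l
      simp only [Matrix.mulVec, dotProduct, Matrix.of_apply, Pi.zero_apply]
      have hj : ∀ j, δ l (x j) * c j = ∑ a, v l (eqv a) * (c j * col j a) := fun j => by
        rw [← hv l j, combDer_apply, ← Equiv.sum_comp eqv, Finset.sum_mul]
        exact Finset.sum_congr rfl fun a _ => by ring
      rw [Finset.sum_congr rfl fun j _ => hj j, Finset.sum_comm]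
      refine Finset.sum_eq_zero fun a _ => ?_
      have h1 := congrFun hc a
      simp only [Finset.sum_apply, Pi.smul_apply, smul_eq_mul, Pi.zero_apply] at h1
      rw [← Finset.mul_sum, h1, mul_zero]
    exact fun j => congrFun (Matrix.eq_zero_of_mulVec_eq_zero hdet hz) j
  obtain ⟨σ, hσ⟩ := H1JacPS.exists_rows L col hcol
  refine ⟨fun l => derFam (r := r) Dk (eqv (σ l)), fun hmem => hσ ?_⟩
  have h1 := algebraMap_eq_zero P L hmem
  rw [RingHom.map_det] at h1
  exact h1

end H1JacAbs
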