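import Mathlib
import Groth.Agent.H1JacAbs.Key
import Groth.Agent.RegFS6.Deriv
import Groth.Agent.H1JacPS.Crit
import Groth.Agent.CoeffField.Smooth
import Groth.Agent.S2471
import Groth.Agent.S0564

/-!
# Derivations at a prime of a local ring
-/

set_option autoImplicit false
set_option backward.isDefEq.respectTransparency false
set_option backward.isDefEq.respectTransparency.types false

universe u

open Groth.Agent IsLocalRing TensorProduct

namespace H1JacAbs

/-- If derivations of the field extend, the differentials inject at the closed point. -/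
theorem injective_of_extend {k A : Type u} [Field k] [CommRing A] [IsLocalRing A] [Algebra k A]
    (h : ∀ δ : Derivation ℤ k (ResidueField A),
      ∃ D : Derivation ℤ A (ResidueField A), ∀ c, D (algebraMap k A c) = δ c) :
    Function.Injective ((KaehlerDifferential.mapBaseChange ℤ k A).lTensor (ResidueField A)) := by
  let K := ResidueField A
  let f := KaehlerDifferential.mapBaseChange ℤ k A
  rw [injective_iff_map_eq_zero]
  intro x hx
  by_contra hx0
  obtain ⟨l, hl⟩ := Module.Projective.exists_dual_ne_zero K hx0
  let δ : Derivation ℤ k K := (((l.restrictScalars k).comp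
    (((TensorProduct.mk A K (A ⊗[k] Ω[k⁄ℤ]) 1).restrictScalars k).comp
      (TensorProduct.mk k A (Ω[k⁄ℤ]) 1)))).compDer (KaehlerDifferential.D ℤ k)
  obtain ⟨D, hD⟩ := h δ
  have h : (LinearMap.liftBaseChange K D.liftKaehlerDifferential).comp (f.baseChange K) = l := by
    refine LinearMap.ext fun z => ?_
    induction z using TensorProduct.induction_on with
    | zero => simp only [map_zero]
    | add a b ha hb => simp only [map_add, ha, hb]
    | tmul r y =>
      rw [show r ⊗ₜ[A] y = r • ((1 : K) ⊗ₜ[A] y) by rw [smul_tmul', smul_eq_mul, mul_one], map_smul, map_smul]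
      congr 1
      induction y using TensorProduct.induction_on with
      | zero => simp only [tmul_zero, map_zero]
      | add a b ha hb => simp only [tmul_add, map_add, ha, hb]
      | tmul a ω =>
        rw [show a ⊗ₜ[k] ω = a • ((1 : A) ⊗ₜ[k] ω) by rw [smul_tmul', smul_eq_mul, mul_one], tmul_smul,
          ← IsScalarTower.algebraMap_smul K a, map_smul, map_smul]
        congr 1
        have hω : ω ∈ Submodule.span k (Set.range (KaehlerDifferential.D ℤ k)) :=
          (KaehlerDifferential.span_range_derivation ℤ k).symm ▸ Submodule.mem_top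
        induction hω using Submodule.span_induction with
        | mem w hw =>
          obtain ⟨c, rfl⟩ := hw
          simp [f, hD, δ]
          rfl
        | zero => simp only [tmul_zero, map_zero]
        | add v w _ _ hv hw => simp only [tmul_add, map_add, hv, hw]
        | smul c w _ hw =>
          rw [tmul_smul, ← IsScalarTower.algebraMap_smul A c ((1 : A) ⊗ₜ[k] w), tmul_smul,
            ← IsScalarTower.algebraMap_smul K (algebraMap k A c), map_smul, map_smul, hw]
  refine hl ?_
  rw [← h, LinearMap.comp_apply]
  show LinearMap.liftBaseChange K D.liftKaehlerDifferential (f.lTensor K x) = 0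
  rw [hx, map_zero]

/-- A functional on the cotangent space is a derivation, in characteristic `p`. -/
theorem exists_derivation_cotangent (p : ℕ) [Fact p.Prime] {R : Type u} [CommRing R] [IsLocalRing R] [CharP R p]
    (l : CotangentSpace R →ₗ[ResidueField R] ResidueField R) :
    ∃ D : Derivation ℤ R (ResidueField R),
      ∀ a : maximalIdeal R, D (a : R) = l ((maximalIdeal R).toCotangent a) := by
  classical
  haveI : CharP (ResidueField R) p := (CharP.charP_iff_prime_eq_zero Fact.out).2 (by
    rw [← map_natCast (residue R), CharP.cast_eq_zero, map_zero])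
  letI : Algebra (ZMod p) R := ZMod.algebra R p
  letI : Algebra (ZMod p) (ResidueField R) := ((residue R).comp (algebraMap (ZMod p) R)).toAlgebra
  haveI : IsScalarTower (ZMod p) R (ResidueField R) := IsScalarTower.of_algebraMap_eq' rfl
  haveI : Algebra.FormallySmooth (ZMod p) (ResidueField R) :=
    Groth.Agent.CoeffField.formallySmooth_of_perfectField (ZMod p) (ResidueField R)
  set m := maximalIdeal R
  let π : (R ⧸ m ^ 2) →ₐ[ZMod p] ResidueField R :=
    { Ideal.Quotient.lift (m ^ 2) (residue R) (fun a ha =>
        (residue_eq_zero_iff a).2 (Ideal.pow_le_self two_ne_zero ha)) with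
      commutes' := fun c => rfl }
  have hπ : Function.Surjective π := fun y => by
    obtain ⟨a, rfl⟩ := residue_surjective y
    exact ⟨Ideal.Quotient.mk _ a, rfl⟩
  have hker : IsNilpotent (RingHom.ker π.toRingHom) := by
    refine ⟨2, ?_⟩
    rw [Ideal.zero_eq_bot, eq_bot_iff]
    refine (le_of_eq (pow_two _)).trans (Ideal.mul_le.2 ?_)
    intro a ha b hb
    obtain ⟨a, rfl⟩ := Ideal.Quotient.mk_surjective a
    obtain ⟨b, rfl⟩ := Ideal.Quotient.mk_surjective b
    rw [Ideal.mem_bot, ← map_mul, Ideal.Quotient.eq_zero_iff_mem, pow_two]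
    exact Ideal.mul_mem_mul ((residue_eq_zero_iff a).1 ha) ((residue_eq_zero_iff b).1 hb)
  obtain ⟨σ, hσ⟩ : ∃ σ : ResidueField R →ₐ[ZMod p] R ⧸ m ^ 2, ∀ y, π (σ y) = y :=
    ⟨Algebra.FormallySmooth.liftOfSurjective (AlgHom.id _ _) π hπ hker,
      fun y => AlgHom.congr_fun (Algebra.FormallySmooth.comp_liftOfSurjective _ _ hπ hker) y⟩
  choose s hs using fun a : R => Ideal.Quotient.mk_surjective (σ (residue R a))
  have hmem : ∀ a, a - s a ∈ m := fun a => by
    have h1 : π (Ideal.Quotient.mk (m ^ 2) (s a)) = residue R a := by rw [hs, hσ]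
    have h2 : residue R (s a) = residue R a := h1
    exact (residue_eq_zero_iff _).1 (by rw [map_sub, h2, sub_self])
  have hkey : ∀ (a : R) (ha : a ∈ m), (m.toCotangent ⟨a, ha⟩ : CotangentSpace R) = m.toCotangent ⟨a - s a, hmem a⟩ := by
    intro a ha
    rw [Ideal.toCotangent_eq]
    show a - (a - s a) ∈ m ^ 2
    rw [sub_sub_cancel, ← Ideal.Quotient.eq_zero_iff_mem, hs, (residue_eq_zero_iff a).2 ha, map_zero]
  let f : R → ResidueField R := fun a => l (m.toCotangent ⟨a - s a, hmem a⟩)
  have hadd : ∀ a b, f (a + b) = f a + f b := fun a b => by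
    show l _ = l _ + l _
    rw [← map_add, ← map_add]
    congr 1
    rw [Ideal.toCotangent_eq]
    show a + b - s (a + b) - ((a - s a) + (b - s b)) ∈ m ^ 2
    rw [show a + b - s (a + b) - ((a - s a) + (b - s b)) = (s a + s b) - s (a + b) by ring,
      ← Ideal.Quotient.eq, map_add, hs, hs, hs, map_add, map_add]
  refine ⟨Derivation.mk' (AddMonoidHom.mk' f hadd).toIntLinearMap fun a b => ?_, fun a => ?_⟩
  · show l _ = a • l _ + b • l _
    have hl : ∀ (c : R) (z : m), c • l (m.toCotangent z) = l (m.toCotangent (c • z)) := fun c z => by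
      rw [map_smul]; exact (LinearMap.map_smul_of_tower l c _).symm
    rw [hl, hl, ← map_add]
    congr 1
    rw [← map_add, Ideal.toCotangent_eq]
    show a * b - s (a * b) - (a * (b - s b) + b * (a - s a)) ∈ m ^ 2
    have h1 : s a * s b - s (a * b) ∈ m ^ 2 := by
      rw [← Ideal.Quotient.eq, map_mul, hs, hs, hs, map_mul, map_mul]
    have h2 : (a - s a) * (b - s b) ∈ m ^ 2 := by
      rw [pow_two]; exact Ideal.mul_mem_mul (hmem a) (hmem b)
    rw [show a * b - s (a * b) - (a * (b - s b) + b * (a - s a))
      = (s a * s b - s (a * b)) - (a - s a) * (b - s b) by ring]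
    exact sub_mem h1 h2
  · exact congrArg l (hkey a a.2).symm

/-- A derivation killing an ideal extends to a localization of the quotient. -/
theorem exists_extend_derivation {A S F : Type u} [CommRing A] [CommRing S] [Algebra A S] (q : Ideal A)
    [Algebra (A ⧸ q) S] [IsScalarTower A (A ⧸ q) S] (M : Submonoid (A ⧸ q)) [IsLocalization M S]
    [Field F] [Algebra A F] [Algebra S F] [IsScalarTower A S F]
    (δ : Derivation ℤ A F) (hδ : ∀ a ∈ q, δ a = 0) :
    ∃ D : Derivation ℤ S F, ∀ a, D (algebraMap A S a) = δ a := by
  let ψ : A →+* TrivSqZeroExt F F :=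
    { toFun := fun a => TrivSqZeroExt.inl (algebraMap A F a) + TrivSqZeroExt.inr (δ a)
      map_one' := by simp
      map_zero' := by simp
      map_add' := fun a b => by
        rw [map_add, map_add, TrivSqZeroExt.inl_add, TrivSqZeroExt.inr_add]; abel
      map_mul' := fun a b => by
        refine TrivSqZeroExt.ext ?_ ?_
        · simp only [TrivSqZeroExt.fst_mul, TrivSqZeroExt.fst_add, TrivSqZeroExt.fst_inl,
            TrivSqZeroExt.fst_inr, map_mul, add_zero]
        · simp only [TrivSqZeroExt.snd_mul, TrivSqZeroExt.fst_add, TrivSqZeroExt.fst_inl, TrivSqZeroExt.fst_inr,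
            TrivSqZeroExt.snd_add, TrivSqZeroExt.snd_inl, TrivSqZeroExt.snd_inr, op_smul_eq_smul,
            Derivation.leibniz, Algebra.smul_def, Algebra.algebraMap_self, RingHom.id_apply]
          ring }
  let ψ' : A ⧸ q →+* TrivSqZeroExt F F := Ideal.Quotient.lift q ψ fun a ha => by
    show TrivSqZeroExt.inl (algebraMap A F a) + TrivSqZeroExt.inr (δ a) = 0
    rw [hδ a ha, TrivSqZeroExt.inr_zero, add_zero, IsScalarTower.algebraMap_apply A S F,
      IsScalarTower.algebraMap_apply A (A ⧸ q) S, Ideal.Quotient.algebraMap_eq,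
      Ideal.Quotient.eq_zero_iff_mem.2 ha, map_zero, map_zero, TrivSqZeroExt.inl_zero]
  have hfst : ∀ x, (ψ' x).fst = algebraMap S F (algebraMap (A ⧸ q) S x) := fun x => by
    obtain ⟨a, rfl⟩ := Ideal.Quotient.mk_surjective x
    have h1 : algebraMap S F (algebraMap (A ⧸ q) S (Ideal.Quotient.mk q a)) = algebraMap A F a := by
      rw [IsScalarTower.algebraMap_apply A S F, IsScalarTower.algebraMap_apply A (A ⧸ q) S]; rfl
    rw [h1]
    simp [ψ', ψ]
  have hu : ∀ y : M, IsUnit (ψ' y) := fun y => by
    rw [TrivSqZeroExt.isUnit_iff_isUnit_fst, hfst]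
    exact (IsLocalization.map_units S y).map _
  let χ : S →+* TrivSqZeroExt F F := IsLocalization.lift hu
  have h : ∀ x, (χ x).fst = algebraMap S F x := by
    intro x
    have : ((TrivSqZeroExt.fstHom F F F).toRingHom.comp χ) = algebraMap S F :=
      IsLocalization.ringHom_ext M (RingHom.ext fun a => by
        show (χ (algebraMap (A ⧸ q) S a)).fst = _
        rw [IsLocalization.lift_eq, hfst]
        rfl)
    exact RingHom.congr_fun this x
  refine ⟨Derivation.mk' ((TrivSqZeroExt.sndHom F F).toAddMonoidHom.comp χ.toAddMonoidHom).toIntLinearMap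
    fun a b => ?_, fun a => ?_⟩
  · show (χ (a * b)).snd = a • (χ b).snd + b • (χ a).snd
    rw [map_mul, TrivSqZeroExt.snd_mul, h, h, op_smul_eq_smul, smul_eq_mul, smul_eq_mul,
      Algebra.smul_def a, Algebra.smul_def b]
  · show (χ (algebraMap A S a)).snd = δ a
    rw [IsScalarTower.algebraMap_apply A (A ⧸ q) S, IsLocalization.lift_eq]
    simp [ψ', ψ, Ideal.Quotient.algebraMap_eq]

variable {A : Type u} [CommRing A] (q p : Ideal A) [p.IsPrime]

/-- The localization of the quotient is the quotient of the localization. -/
theorem nonempty_quot_equiv (hqp : q ≤ p) [(p.map (Ideal.Quotient.mk q)).IsPrime] :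
    Nonempty (Localization.AtPrime (p.map (Ideal.Quotient.mk q)) ≃+*
      (Localization.AtPrime p) ⧸ q.map (algebraMap A (Localization.AtPrime p))) := by
  have hloc : IsLocalization (p.map (Ideal.Quotient.mk q)).primeCompl
      ((Localization.AtPrime p) ⧸ q.map (algebraMap A (Localization.AtPrime p))) := by
    have e : (p.map (Ideal.Quotient.mk q)).primeCompl = Algebra.algebraMapSubmonoid (A ⧸ q) p.primeCompl := by
      ext x
      obtain ⟨a, rfl⟩ := Ideal.Quotient.mk_surjective x
      constructor
      · intro h
        exact ⟨a, fun ha => h (Ideal.mem_map_of_mem _ ha), rfl⟩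
      · rintro ⟨b, hb, hba⟩ h
        apply hb
        have hba' : Ideal.Quotient.mk q b = Ideal.Quotient.mk q a := hba
        rw [← hba', SetLike.mem_coe, Ideal.mem_quotient_iff_mem hqp] at h
        exact h
    rw [e]; infer_instance
  exact ⟨(IsLocalization.algEquiv (p.map (Ideal.Quotient.mk q)).primeCompl
    (Localization.AtPrime (p.map (Ideal.Quotient.mk q)))
    ((Localization.AtPrime p) ⧸ q.map (algebraMap A (Localization.AtPrime p)))).toRingEquiv⟩

/-- Generation of the localized ideal, elementwise. -/
theorem map_eq_span_iff {m : ℕ} (f : Fin m → A) (hf : ∀ i, f i ∈ q) :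
    q.map (algebraMap A (Localization.AtPrime p)) =
        Ideal.span (Set.range fun i => algebraMap A (Localization.AtPrime p) (f i)) ↔
      ∀ x ∈ q, ∃ u ∉ p, u * x ∈ Ideal.span (Set.range f) := by
  have hspan : Ideal.span (Set.range fun i => algebraMap A (Localization.AtPrime p) (f i)) =
      (Ideal.span (Set.range f)).map (algebraMap A (Localization.AtPrime p)) := by
    rw [Ideal.map_span, ← Set.range_comp]; rfl
  rw [hspan]
  constructor
  · intro h x hx
    exact (IsLocalization.algebraMap_mem_map_algebraMap_iff p.primeCompl (Localization.AtPrime p) _ _).1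
      (h ▸ Ideal.mem_map_of_mem _ hx)
  · intro h
    refine le_antisymm (Ideal.map_le_iff_le_comap.2 fun x hx => ?_)
      (Ideal.map_mono (Ideal.span_le.2 (Set.range_subset_iff.2 hf)))
    exact (IsLocalization.algebraMap_mem_map_algebraMap_iff p.primeCompl (Localization.AtPrime p) _ _).2 (h x hx)

/-- A regular quotient is cut out by elements with independent cotangent classes. -/
theorem exists_min_gens (hqp : q ≤ p) [IsRegularLocalRing (Localization.AtPrime p)]
    [IsRegularLocalRing ((Localization.AtPrime p) ⧸ q.map (algebraMap A (Localization.AtPrime p)))] :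
    ∃ (m : ℕ) (f : Fin m → A) (hf : ∀ i, algebraMap A (Localization.AtPrime p) (f i) ∈ maximalIdeal (Localization.AtPrime p)),
      (∀ i, f i ∈ q) ∧ q.map (algebraMap A (Localization.AtPrime p)) =
        Ideal.span (Set.range fun i => algebraMap A (Localization.AtPrime p) (f i)) ∧
      LinearIndependent (ResidueField (Localization.AtPrime p))
        fun i => (maximalIdeal (Localization.AtPrime p)).toCotangent ⟨_, hf i⟩ := by
  classical
  have hmax : ∀ a ∈ p, algebraMap A (Localization.AtPrime p) a ∈ maximalIdeal (Localization.AtPrime p) := fun a ha => by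
    rw [← Localization.AtPrime.map_eq_maximalIdeal]
    exact Ideal.mem_map_of_mem _ ha
  let c : q → CotangentSpace (Localization.AtPrime p) := fun a =>
    (maximalIdeal (Localization.AtPrime p)).toCotangent ⟨_, hmax a (hqp a.2)⟩
  obtain ⟨B, hBsub, hBspan, hBli⟩ := exists_linearIndependent (ResidueField (Localization.AtPrime p)) (Set.range c)
  haveI : Fintype B := (LinearIndependent.setFinite hBli).fintype
  let e : Fin (Fintype.card B) ≃ B := (Fintype.equivFin B).symm
  choose a ha using fun i => hBsub (e i).2
  have hcf : LinearIndependent (ResidueField (Localization.AtPrime p)) fun i => c (a i) := by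
    have := hBli.comp e e.injective
    convert this using 1
    exact funext ha
  refine ⟨_, fun i => a i, fun i => hmax _ (hqp (a i).2), fun i => (a i).2, ?_, hcf⟩
  refine H1JacPS.eq_span_of_regular_quot (q.map (algebraMap A (Localization.AtPrime p)))
    (fun i => (⟨_, hmax _ (hqp (a i).2)⟩ : maximalIdeal (Localization.AtPrime p)))
    (fun i => Ideal.mem_map_of_mem _ (a i).2) hcf ?_
  rw [Ideal.map_le_iff_le_comap]
  intro x hx
  have hxt : c ⟨x, hx⟩ ∈ Submodule.span (ResidueField (Localization.AtPrime p)) (Set.range fun i => c (a i)) := by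
    have h1 : (fun i => c (a i)) = ((↑) : B → CotangentSpace (Localization.AtPrime p)) ∘ e := funext ha
    rw [h1, Set.range_comp, e.surjective.range_eq, Set.image_univ, Subtype.range_coe, hBspan]
    exact Submodule.subset_span ⟨⟨x, hx⟩, rfl⟩
  obtain ⟨g, hg⟩ := (Submodule.mem_span_range_iff_exists_fun _).1 hxt
  choose g' hg' using fun i => residue_surjective (g i)
  have hmem : algebraMap A (Localization.AtPrime p) x - ∑ i, g' i * algebraMap A (Localization.AtPrime p) (a i) ∈
      maximalIdeal (Localization.AtPrime p) ^ 2 := by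
    have h0 : (maximalIdeal (Localization.AtPrime p)).toCotangent
        (⟨algebraMap A (Localization.AtPrime p) x, hmax _ (hqp hx)⟩ -
          ∑ i, g' i • ⟨algebraMap A (Localization.AtPrime p) (a i), hmax _ (hqp (a i).2)⟩) = 0 := by
      rw [map_sub, sub_eq_zero, map_sum]
      refine hg.symm.trans (Finset.sum_congr rfl fun i _ => ?_)
      rw [map_smul, ← hg' i]
      exact algebraMap_smul (ResidueField (Localization.AtPrime p)) (g' i) (c (a i))
    simpa [Submodule.coe_sum] using (Ideal.toCotangent_eq_zero _ _).1 h0
  rw [Ideal.mem_comap, show algebraMap A (Localization.AtPrime p) x =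
    (∑ i, g' i * algebraMap A (Localization.AtPrime p) (a i)) + (algebraMap A (Localization.AtPrime p) x -
      ∑ i, g' i * algebraMap A (Localization.AtPrime p) (a i)) by ring]
  exact Submodule.add_mem_sup (Ideal.sum_mem _ fun i _ => Ideal.mul_mem_left _ _
    (Ideal.subset_span (Set.mem_range_self i))) hmem

end H1JacAbs
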