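import Mathlib
import Groth.Agent.H1JacAbs.Local
import Groth.Agent.S4574

/-!
# The Jacobian condition is sufficient for formal smoothness
-/

set_option autoImplicit false
set_option backward.isDefEq.respectTransparency false
set_option backward.isDefEq.respectTransparency.types false

universe u

open Groth.Agent IsLocalRing

namespace H1JacAbs

attribute [local instance 10000] Ring.toIntAlgebra

variable {k A : Type u} [Field k] [CommRing A] [Algebra k A] (q p : Ideal A) [p.IsPrime]

theorem map_liesOver (hqp : q ≤ p) [(p.map (Ideal.Quotient.mk q)).IsPrime] :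
    p = (p.map (Ideal.Quotient.mk q)).comap (Ideal.Quotient.mk q) := by
  rw [Ideal.comap_map_of_surjective _ Ideal.Quotient.mk_surjective, ← RingHom.ker_eq_comap_bot, Ideal.mk_ker,
    sup_eq_left.2 hqp]

/-- The Jacobian condition is sufficient. -/
theorem fs_of_jacobian [IsLocalRing A] [IsNoetherianRing A]
    (hfs : CAlgX.IsAdicFormallySmooth k A (maximalIdeal A))
    (hqp : q ≤ p) [(p.map (Ideal.Quotient.mk q)).IsPrime]
    {m : ℕ} (D : Fin m → Derivation k A A) (f : Fin m → A) (hfq : ∀ i, f i ∈ q)
    (hspan : q.map (algebraMap A (Localization.AtPrime p)) =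
      Ideal.span (Set.range fun i => algebraMap A (Localization.AtPrime p) (f i)))
    (hdet : Matrix.det (Matrix.of fun i j => D i (f j)) ∉ p) :
    CAlgX.IsAdicFormallySmooth k (Localization.AtPrime (p.map (Ideal.Quotient.mk q)))
      (maximalIdeal (Localization.AtPrime (p.map (Ideal.Quotient.mk q)))) := by
  classical
  obtain ⟨hregR, hinjR⟩ := (Groth.Agent.S2471.result).1 (Groth.Agent.S4574.result hfs p)
  haveI := hregR
  refine (Groth.Agent.S2471.result).2 ⟨?_, ?_⟩
  · -- regularity
    obtain ⟨E⟩ := nonempty_quot_equiv q p hqp
    have hmax : ∀ a ∈ p, algebraMap A (Localization.AtPrime p) a ∈ maximalIdeal (Localization.AtPrime p) :=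
      fun a ha => by
        rw [← Localization.AtPrime.map_eq_maximalIdeal]
        exact Ideal.mem_map_of_mem _ ha
    choose D' hD' using fun i => H1JacPS.exists_derivation_loc (U := Localization.AtPrime p) p.primeCompl (D i)
    let F : Fin m → maximalIdeal (Localization.AtPrime p) := fun i =>
      ⟨algebraMap A (Localization.AtPrime p) (f i), hmax _ (hqp (hfq i))⟩
    have hli := H1RegPar.linearIndependent_of_derivations F D' (by
      have e : Matrix.of (fun i j => D' i (F j : (Localization.AtPrime p))) =
          (Matrix.of fun i j => D i (f j)).map (algebraMap A (Localization.AtPrime p)) := by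
        ext i j
        exact hD' i (f j)
      rw [e, ← RingHom.mapMatrix_apply, ← RingHom.map_det]
      exact IsLocalization.map_units (Localization.AtPrime p) (⟨_, hdet⟩ : p.primeCompl))
    haveI h := (H1RegPar.isRegular_of_linearIndependent F hli).1
    haveI : IsRegularLocalRing ((Localization.AtPrime p) ⧸ q.map (algebraMap A (Localization.AtPrime p))) :=
      IsRegularLocalRing.of_ringEquiv (R := Localization.AtPrime p ⧸ Ideal.span (Set.range fun i =>
        algebraMap A (Localization.AtPrime p) (f i))) (Ideal.quotEquivOfEq hspan.symm)
    exact IsRegularLocalRing.of_ringEquiv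
      (R := Localization.AtPrime p ⧸ q.map (algebraMap A (Localization.AtPrime p))) E.symm
  · -- extension of derivations
    refine injective_of_extend fun δ => ?_
    set P := p.map (Ideal.Quotient.mk q)
    let ρ : Localization.AtPrime p →+* Localization.AtPrime P :=
      Localization.localRingHom p P (Ideal.Quotient.mk q) (map_liesOver q p hqp)
    haveI : IsLocalHom ρ := Localization.isLocalHom_localRingHom p P _ _
    have hρ : ∀ a : A, ρ (algebraMap A (Localization.AtPrime p) a) =
        algebraMap A (Localization.AtPrime P) a := fun a => by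
      rw [Localization.localRingHom_to_map, IsScalarTower.algebraMap_apply A (A ⧸ q) (Localization.AtPrime P)]
      rfl
    let F := ResidueField (Localization.AtPrime P)
    letI : Algebra (Localization.AtPrime p) F := ((algebraMap (Localization.AtPrime P) F).comp ρ).toAlgebra
    haveI : IsScalarTower A (Localization.AtPrime p) F := IsScalarTower.of_algebraMap_eq fun a => by
      show _ = algebraMap (Localization.AtPrime P) F (ρ _)
      rw [hρ, ← IsScalarTower.algebraMap_apply]
    haveI : IsScalarTower k (Localization.AtPrime p) F := IsScalarTower.of_algebraMap_eq fun c => by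
      rw [IsScalarTower.algebraMap_apply k A (Localization.AtPrime p),
        ← IsScalarTower.algebraMap_apply A (Localization.AtPrime p) F, ← IsScalarTower.algebraMap_apply]
    obtain ⟨D₀, hD₀⟩ := RegFS6.exists_derivation_of_injective (F := F) hinjR (fun x hx => by
      show residue _ (ρ x) = 0
      rw [residue_eq_zero_iff]
      exact map_nonunit ρ x hx) δ
    let ν := algebraMap A F
    have hνp : ∀ a ∈ p, ν a = 0 := fun a ha => by
      show algebraMap A F a = 0
      rw [IsScalarTower.algebraMap_apply A (Localization.AtPrime p) F]
      show residue _ (ρ (algebraMap A (Localization.AtPrime p) a)) = 0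
      rw [residue_eq_zero_iff]
      refine map_nonunit ρ _ ?_
      rw [← Localization.AtPrime.map_eq_maximalIdeal]
      exact Ideal.mem_map_of_mem _ ha
    have hνu : ∀ a, a ∉ p → ν a ≠ 0 := fun a ha => by
      show algebraMap A F a ≠ 0
      rw [IsScalarTower.algebraMap_apply A (Localization.AtPrime p) F]
      exact ((IsLocalization.map_units (Localization.AtPrime p) (⟨a, ha⟩ : p.primeCompl)).map _).ne_zero
    let M : Matrix (Fin m) (Fin m) F := (Matrix.of fun i j => D i (f j)).map ν
    have hM : IsUnit M.det := by
      rw [show M.det = ν (Matrix.of fun i j => D i (f j)).det from (RingHom.map_det ν _).symm]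
      exact (hνu _ hdet).isUnit
    let d0 : Fin m → F := fun j => D₀ (algebraMap A (Localization.AtPrime p) (f j))
    let c : Fin m → F := Matrix.vecMul d0 M⁻¹
    have hc : ∀ j, ∑ i, c i * ν (D i (f j)) = d0 j := fun j => by
      have h1 : Matrix.vecMul c M = d0 := by
        rw [Matrix.vecMul_vecMul, Matrix.nonsing_inv_mul _ hM, Matrix.vecMul_one]
      exact congrFun h1 j
    let g : A →+ F := (AddMonoidHom.mk' (fun a : A => D₀ (algebraMap A (Localization.AtPrime p) a)) fun a b => by
        rw [map_add, map_add]) -
      ∑ i, (AddMonoidHom.mulLeft (c i)).comp (ν.toAddMonoidHom.comp (D i).toLinearMap.toAddMonoidHom)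
    have hg : ∀ a, g a = D₀ (algebraMap A (Localization.AtPrime p) a) - ∑ i, c i * ν (D i a) := fun a => by
      simp [g, AddMonoidHom.finsetSum_apply]
    let δA : Derivation ℤ A F := Derivation.mk' g.toIntLinearMap fun a b => by
      show g (a * b) = a • g b + b • g a
      rw [hg, hg, hg, map_mul, D₀.leibniz, IsScalarTower.algebraMap_smul, IsScalarTower.algebraMap_smul,
        Algebra.smul_def, Algebra.smul_def, Algebra.smul_def, Algebra.smul_def]
      simp only [Derivation.leibniz, smul_eq_mul, map_add, map_mul, mul_add, Finset.sum_add_distrib, mul_sub,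
        Finset.mul_sum, ν]
      simp only [mul_left_comm]
      ring
    have hδA : ∀ a, δA a = g a := fun a => rfl
    have hkill : ∀ x ∈ q, δA x = 0 := by
      intro x hx
      obtain ⟨u, hu, hu'⟩ := (map_eq_span_iff q p f hfq).1 hspan x hx
      obtain ⟨w, hw⟩ := Ideal.mem_span_range_iff_exists_fun.1 hu'
      have h1 := congrArg δA hw
      rw [map_sum, Derivation.leibniz, Algebra.smul_def, Algebra.smul_def, hνp x (hqp hx), zero_mul, add_zero,
        Finset.sum_eq_zero fun j _ => by
          rw [Derivation.leibniz, hδA (f j), hg, hc]
          rw [show algebraMap A (Localization.AtPrime p) (f j) = algebraMap A _ (f j) from rfl]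
          simp only [d0, sub_self, smul_zero, zero_add]
          rw [Algebra.smul_def, hνp _ (hqp (hfq j)), zero_mul]] at h1
      exact (mul_eq_zero.1 h1.symm).resolve_left (hνu u hu)
    obtain ⟨DS, hDS⟩ := exists_extend_derivation (S := Localization.AtPrime P) (F := F) q P.primeCompl δA hkill
    refine ⟨DS, fun t => ?_⟩
    rw [IsScalarTower.algebraMap_apply k A (Localization.AtPrime P), hDS, hδA, hg,
      ← IsScalarTower.algebraMap_apply k A (Localization.AtPrime p), hD₀]
    simp
    rfl

end H1JacAbs
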