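import Mathlib
import Groth.Agent.H1JacAbs.Suff
import Groth.Agent.CohenLib.Structure
import Groth.Agent.Cohen4.Struct

/-!
# The Jacobian condition is necessary for formal smoothness
-/

set_option autoImplicit false
set_option backward.isDefEq.respectTransparency false
set_option backward.isDefEq.respectTransparency.types false

universe u

open Groth.Agent IsLocalRing

namespace H1JacAbs

/-- A regular complete local ring with a coefficient field is a power series ring over it. -/
theorem exists_equiv_powerSeries {A : Type u} [CommRing A] [IsRegularLocalRing A]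
    [IsAdicComplete (maximalIdeal A) A] (K : Type u) [Field K] (σ : K →+* A)
    (hσ : Function.Surjective ((residue A).comp σ)) :
    ∃ (r : ℕ) (e : MvPowerSeries (Fin r) K ≃+* A), ∀ c, e (MvPowerSeries.C c) = σ c := by
  classical
  letI : Algebra K A := σ.toAlgebra
  let bb := Module.finBasis (ResidueField A) (CotangentSpace A)
  choose b hb using fun i => (maximalIdeal A).toCotangent_surjective (bb i)
  have hsp : Submodule.span (ResidueField A) (Set.range fun i => (maximalIdeal A).toCotangent (b i)) = ⊤ := by
    simp only [hb]; exact bb.span_eq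
  obtain ⟨ψ, hψ⟩ := PSLib.exists_algHom (R := K) (maximalIdeal A) (fun i => (b i).1) (fun i => (b i).2)
  have hs : Function.Surjective ψ := by
    refine PSLib.surjective_of_span hσ ψ (fun i => by rw [hψ]; exact (b i).2) ?_
    simp only [hψ]
    exact PSLib.le_span_sup_sq (fun i => (b i).2) hsp
  have hdimA : ringKrullDim A = (Module.finrank (ResidueField A) (CotangentSpace A) : ℕ) := by
    rw [← (isRegularLocalRing_iff A).1 inferInstance, spanFinrank_maximalIdeal_eq_finrank_cotangentSpace]
  haveI : IsDomain (MvPowerSeries (Fin (Module.finrank (ResidueField A) (CotangentSpace A))) K) :=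
    NoZeroDivisors.to_isDomain _
  have hinj : Function.Injective ψ := CohenLib.injective_of_finite ψ.toRingHom
    (RingHom.Finite.of_surjective _ hs) hdimA (PSLib.ringKrullDim_eq K _).le
  refine ⟨_, RingEquiv.ofBijective ψ.toRingHom ⟨hinj, hs⟩, fun c => ?_⟩
  show ψ (MvPowerSeries.C c) = σ c
  rw [show (MvPowerSeries.C c : MvPowerSeries _ K) = algebraMap K _ c by simp [MvPowerSeries.algebraMap_apply],
    ψ.commutes]
  rfl

/-- Normalization of a prime quotient of a power series ring. -/
theorem exists_normalization_quot {K : Type u} [Field K] {r : ℕ} (P : Ideal (MvPowerSeries (Fin r) K)) [P.IsPrime] :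
    ∃ (s : ℕ) (w : MvPowerSeries (Fin s) K →ₐ[K] MvPowerSeries (Fin r) K ⧸ P),
      Function.Injective w ∧ w.toRingHom.Finite := by
  classical
  haveI := (CohenLib.isRegular_complete_mvPowerSeries (Field.toIsField K |> Or.inl) r).1
  obtain ⟨hregA, hcplA⟩ := (CohenLib.isRegular_complete_mvPowerSeries (Field.toIsField K |> Or.inl) r).2
  haveI := hcplA
  haveI : Nontrivial (MvPowerSeries (Fin r) K ⧸ P) :=
    Ideal.Quotient.nontrivial_iff.2 (Ideal.IsPrime.ne_top inferInstance)
  haveI : IsLocalRing (MvPowerSeries (Fin r) K ⧸ P) := .of_surjective' _ Ideal.Quotient.mk_surjective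
  haveI := CplFib6.isAdicComplete_quot P
  haveI : Module.Finite K (ResidueField (MvPowerSeries (Fin r) K ⧸ P)) := by
    have hres : Function.Surjective (algebraMap K (ResidueField (MvPowerSeries (Fin r) K ⧸ P))) := by
      intro y
      obtain ⟨y, rfl⟩ := residue_surjective y
      obtain ⟨f, rfl⟩ := Ideal.Quotient.mk_surjective y
      refine ⟨MvPowerSeries.constantCoeff f, ?_⟩
      rw [IsScalarTower.algebraMap_apply K (MvPowerSeries (Fin r) K ⧸ P)
        (ResidueField (MvPowerSeries (Fin r) K ⧸ P))]
      rw [show algebraMap K (MvPowerSeries (Fin r) K ⧸ P) (MvPowerSeries.constantCoeff f) =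
        Ideal.Quotient.mk P (algebraMap K _ (MvPowerSeries.constantCoeff f)) from rfl, ← sub_eq_zero,
        ResidueField.algebraMap_eq, ← map_sub, residue_eq_zero_iff, ← map_sub]
      by_contra hu
      have hf : algebraMap K (MvPowerSeries (Fin r) K) (MvPowerSeries.constantCoeff f) - f ∈
          maximalIdeal (MvPowerSeries (Fin r) K) := by
        rw [mem_maximalIdeal, mem_nonunits_iff, MvPowerSeries.isUnit_iff_constantCoeff]
        simp [MvPowerSeries.algebraMap_apply]
      haveI : IsLocalHom (Ideal.Quotient.mk P) := .of_surjective _ Ideal.Quotient.mk_surjective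
      exact (mem_maximalIdeal _).1 hf (isUnit_of_map_unit (Ideal.Quotient.mk P) _
        (not_not.1 fun h => hu ((mem_maximalIdeal _).2 h)))
    exact Module.Finite.of_surjective (Algebra.linearMap K _) hres
  obtain ⟨s, w, h1, -, h2⟩ := Cohen4.exists_normalization (k₀ := K) (A := MvPowerSeries (Fin r) K ⧸ P)
  exact ⟨s, w, h1, h2⟩

/-- In characteristic zero regularity gives the Jacobian condition. -/
theorem jacobian_of_regular_zero {k A : Type u} [Field k] [CharZero k] [CommRing A] [IsRegularLocalRing A]
    [IsAdicComplete (maximalIdeal A) A] [Algebra k A] (q p : Ideal A) [p.IsPrime] (hqp : q ≤ p)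
    [(p.map (Ideal.Quotient.mk q)).IsPrime]
    (hB : IsRegularLocalRing (Localization.AtPrime (p.map (Ideal.Quotient.mk q)))) :
    ∃ (m : ℕ) (D : Fin m → Derivation k A A) (f : Fin m → A), (∀ i, f i ∈ q) ∧
      q.map (algebraMap A (Localization.AtPrime p)) =
        Ideal.span (Set.range fun i => algebraMap A (Localization.AtPrime p) (f i)) ∧
      Matrix.det (Matrix.of fun i j => D i (f j)) ∉ p := by
  classical
  haveI := hB
  obtain ⟨σ, hσ⟩ := Groth.Agent.CoeffField.exists_section k A
  obtain ⟨r, e, he⟩ := exists_equiv_powerSeries (ResidueField A) σ.toRingHom fun x => ⟨x, hσ x⟩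
  set K := ResidueField A
  set q' := q.comap e.toRingHom
  set P := p.comap e.toRingHom
  haveI : P.IsPrime := Ideal.comap_isPrime _ _
  have hqP : q' ≤ P := Ideal.comap_mono hqp
  haveI : (P.map (Ideal.Quotient.mk q')).IsPrime :=
    Ideal.map_isPrime_of_surjective Ideal.Quotient.mk_surjective (by rw [Ideal.mk_ker]; exact hqP)
  -- the local rings agree
  haveI : IsRegularLocalRing (Localization.AtPrime (P.map (Ideal.Quotient.mk q'))) := by
    let eq : (MvPowerSeries (Fin r) K ⧸ q') ≃+* (A ⧸ q) :=
      Ideal.quotientEquiv q' q e (by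
        show q = q'.map e.toRingHom
        exact (Ideal.map_comap_of_surjective e.toRingHom e.surjective q).symm)
    have hM : (P.map (Ideal.Quotient.mk q')).primeCompl.map eq.toMonoidHom = (p.map (Ideal.Quotient.mk q)).primeCompl := by
      ext x
      obtain ⟨a, rfl⟩ := Ideal.Quotient.mk_surjective x
      constructor
      · rintro ⟨y, hy, hxy⟩
        obtain ⟨b, rfl⟩ := Ideal.Quotient.mk_surjective y
        intro ha
        apply hy
        have hxy' : Ideal.Quotient.mk q (e b) = Ideal.Quotient.mk q a := hxy
        rw [← hxy', SetLike.mem_coe, Ideal.mem_quotient_iff_mem hqp] at ha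
        exact Ideal.mem_map_of_mem _ ha
      · intro ha
        refine ⟨Ideal.Quotient.mk q' (e.symm a), fun h => ha ?_, ?_⟩
        · rw [SetLike.mem_coe, Ideal.mem_quotient_iff_mem hqP] at h
          have : e (e.symm a) ∈ p := h
          rw [e.apply_symm_apply] at this
          exact Ideal.mem_map_of_mem _ this
        · show Ideal.Quotient.mk q (e (e.symm a)) = _
          rw [e.apply_symm_apply]
    exact IsRegularLocalRing.of_ringEquiv (R := Localization.AtPrime (p.map (Ideal.Quotient.mk q)))
      (IsLocalization.ringEquivOfRingEquiv (M := (P.map (Ideal.Quotient.mk q')).primeCompl)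
        (T := (p.map (Ideal.Quotient.mk q)).primeCompl) (Localization.AtPrime (P.map (Ideal.Quotient.mk q')))
        (Localization.AtPrime (p.map (Ideal.Quotient.mk q))) eq hM).symm
  obtain ⟨s, w, hwinj, hwfin⟩ := exists_normalization_quot P
  letI : Algebra (MvPowerSeries (Fin s) K) (MvPowerSeries (Fin r) K ⧸ P) := w.toRingHom.toAlgebra
  haveI : IsScalarTower K (MvPowerSeries (Fin s) K) (MvPowerSeries (Fin r) K ⧸ P) :=
    IsScalarTower.of_algebraMap_eq fun c => (w.commutes c).symm
  haveI : Module.Finite (MvPowerSeries (Fin s) K) (MvPowerSeries (Fin r) K ⧸ P) := hwfin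
  haveI : IsDomain (MvPowerSeries (Fin s) K) := NoZeroDivisors.to_isDomain _
  let L := P.ResidueField
  let g₀ : MvPowerSeries (Fin s) K →+* L :=
    (algebraMap (MvPowerSeries (Fin r) K ⧸ P) L).comp (algebraMap (MvPowerSeries (Fin s) K) _)
  have hg₀ : Function.Injective g₀ := (IsFractionRing.injective (MvPowerSeries (Fin r) K ⧸ P) L).comp hwinj
  let φ : FractionRing (MvPowerSeries (Fin s) K) →+* L := IsFractionRing.lift hg₀
  have hfin := finite_fractionField (R := MvPowerSeries (Fin r) K ⧸ P) φ fun g =>
    IsFractionRing.lift_algebraMap hg₀ g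
  letI : Algebra (FractionRing (MvPowerSeries (Fin s) K)) L := φ.toAlgebra
  haveI := hfin
  letI : Algebra (MvPowerSeries (Fin s) K) L := g₀.toAlgebra
  haveI : IsScalarTower (MvPowerSeries (Fin s) K) (MvPowerSeries (Fin r) K ⧸ P) L :=
    IsScalarTower.of_algebraMap_eq fun _ => rfl
  haveI : IsScalarTower (MvPowerSeries (Fin s) K) (FractionRing (MvPowerSeries (Fin s) K)) L :=
    IsScalarTower.of_algebraMap_eq fun g => (IsFractionRing.lift_algebraMap hg₀ g).symm
  haveI : CharZero K := charZero_of_injective_algebraMap (algebraMap k K).injective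
  haveI : CharZero (FractionRing (MvPowerSeries (Fin s) K)) :=
    charZero_of_injective_ringHom (f := (algebraMap (MvPowerSeries (Fin s) K) _).comp (MvPowerSeries.C (σ := Fin s)))
      ((IsFractionRing.injective (MvPowerSeries (Fin s) K) _).comp MvPowerSeries.C_injective)
  haveI : Algebra.IsSeparable (FractionRing (MvPowerSeries (Fin s) K)) L :=
    Algebra.IsAlgebraic.isSeparable_of_perfectField
  obtain ⟨m, D, f, hfq, hspan, hdet⟩ := (H1JacPS.regular_iff q' P L hwinj
    (FractionRing (MvPowerSeries (Fin s) K)) hqP).1 inferInstance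
  have hk : ∀ c : k, e.symm (algebraMap k A c) = MvPowerSeries.C (algebraMap k K c) := fun c => by
    rw [RingEquiv.symm_apply_eq, he]
    exact (σ.commutes c).symm
  let D' : Fin m → Derivation k A A := fun i => Derivation.mk'
    { toFun := fun a => e (D i (e.symm a))
      map_add' := fun a b => by rw [map_add, map_add, map_add]
      map_smul' := fun c a => by
        rw [RingHom.id_apply, Algebra.smul_def, map_mul, hk, Derivation.leibniz,
          show (MvPowerSeries.C (algebraMap k K c) : MvPowerSeries (Fin r) K) = algebraMap K _ (algebraMap k K c) by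
            simp [MvPowerSeries.algebraMap_apply], Derivation.map_algebraMap, smul_zero, add_zero, smul_eq_mul,
          map_mul, Algebra.smul_def]
        rw [show algebraMap K (MvPowerSeries (Fin r) K) (algebraMap k K c) = MvPowerSeries.C (algebraMap k K c) by
            simp [MvPowerSeries.algebraMap_apply], ← hk, e.apply_symm_apply] }
    fun a b => by
      show e (D i (e.symm (a * b))) = a • e (D i (e.symm b)) + b • e (D i (e.symm a))
      simp [Derivation.leibniz]
  refine ⟨m, D', fun i => e (f i), fun i => hfq i, ?_, ?_⟩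
  · refine (map_eq_span_iff q p _ fun i => hfq i).2 fun x hx => ?_
    have hx' : e.symm x ∈ q' := by
      show e (e.symm x) ∈ q
      rwa [e.apply_symm_apply]
    obtain ⟨u, hu, hu'⟩ := (map_eq_span_iff q' P f hfq).1 hspan _ hx'
    refine ⟨e u, hu, ?_⟩
    have h1 := Ideal.mem_map_of_mem e.toRingHom hu'
    rw [Ideal.map_span, ← Set.range_comp] at h1
    simp only [RingEquiv.toRingHom_eq_coe, RingHom.coe_coe, map_mul, e.apply_symm_apply] at h1
    exact h1
  · have h : (Matrix.of fun i j => D' i (e (f j))) = (Matrix.of fun i j => D i (f j)).map e := by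
      ext i j
      show e (D i (e.symm (e (f j)))) = e (D i (f j))
      rw [e.symm_apply_apply]
    rw [h, ← RingEquiv.mapMatrix_apply, ← RingEquiv.map_det]
    exact hdet

/-- Derivations detect independent differentials in a ring isomorphic to a power series ring. -/
theorem exists_derivations_equiv {A K : Type u} [CommRing A] [Field K] (pc : ℕ) [Fact pc.Prime] [CharP K pc]
    {r : ℕ} (e : MvPowerSeries (Fin r) K ≃+* A) (p : Ideal A) [p.IsPrime] {m : ℕ} (x : Fin m → A)
    (δ : Fin m → Derivation ℤ A p.ResidueField)
    (hdet : Matrix.det (Matrix.of fun i j => δ i (x j)) ≠ 0) :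
    ∃ D : Fin m → Derivation ℤ A A, Matrix.det (Matrix.of fun i j => D i (x j)) ∉ p := by
  classical
  set P := p.comap e.toRingHom
  haveI : P.IsPrime := Ideal.comap_isPrime _ _
  let j : p.ResidueField →+* P.ResidueField := Ideal.ResidueField.map p P e.symm.toRingHom (by
    ext a
    show a ∈ p ↔ e (e.symm a) ∈ p
    rw [e.apply_symm_apply])
  have hj : ∀ a : A, j (algebraMap A p.ResidueField a) = algebraMap _ P.ResidueField (e.symm a) := fun a =>
    Ideal.ResidueField.map_algebraMap p P e.symm.toRingHom _ a
  let δ' : Fin m → Derivation ℤ (MvPowerSeries (Fin r) K) P.ResidueField := fun i =>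
    Derivation.mk' (AddMonoidHom.mk' (fun a => j (δ i (e a))) fun a b => by
      rw [map_add, map_add, map_add]).toIntLinearMap fun a b => by
      show j (δ i (e (a * b))) = a • j (δ i (e b)) + b • j (δ i (e a))
      rw [map_mul, (δ i).leibniz, map_add, Algebra.smul_def, Algebra.smul_def, map_mul, map_mul, hj, hj,
        e.symm_apply_apply, e.symm_apply_apply, Algebra.smul_def, Algebra.smul_def]
  obtain ⟨D, hD⟩ := exists_derivations pc P P.ResidueField (fun l => e.symm (x l)) δ' (by
    have h : (Matrix.of fun i l => δ' i (e.symm (x l))) = (Matrix.of fun i l => δ i (x l)).map j := by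
      ext i l
      show j (δ i (e (e.symm (x l)))) = j (δ i (x l))
      rw [e.apply_symm_apply]
    rw [h, ← RingHom.mapMatrix_apply, ← RingHom.map_det]
    exact (map_ne_zero j).2 hdet)
  let D' : Fin m → Derivation ℤ A A := fun i =>
    Derivation.mk' (AddMonoidHom.mk' (fun a => e (D i (e.symm a))) fun a b => by
      rw [map_add, map_add, map_add]).toIntLinearMap fun a b => by
      show e (D i (e.symm (a * b))) = a • e (D i (e.symm b)) + b • e (D i (e.symm a))
      rw [map_mul, (D i).leibniz]
      simp
  refine ⟨D', fun hmem => hD ?_⟩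
  show e _ ∈ p
  rw [RingEquiv.map_det]
  exact hmem

end H1JacAbs
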