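import Mathlib
import Groth.Agent.H1JacAbs.Nec

/-!
# The Jacobian condition is necessary for formal smoothness, in characteristic `p`
-/

set_option autoImplicit false
set_option backward.isDefEq.respectTransparency false
set_option backward.isDefEq.respectTransparency.types false

universe u

open Groth.Agent IsLocalRing

namespace H1JacAbs

/-- A field finite over its `p`th powers has finitely many generators with dual derivations. -/
theorem exists_base (pc : ℕ) [Fact pc.Prime] (k : Type u) [Field k] [CharP k pc]
    [Module.Finite (frobenius k pc).fieldRange k] :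
    ∃ (n : ℕ) (t : Fin n → k) (D : Fin n → Derivation ℤ k k),
      (∀ a c, D a (t c) = if a = c then 1 else 0) ∧
      ∀ (M : Subfield k), (∀ y, y ^ pc ∈ M) → (∀ c, t c ∈ M) → ∀ y, y ∈ M := by
  classical
  obtain ⟨n, t, D, -, hdual, hext⟩ := exists_gen (L := k) pc _ (frobenius k pc).fieldRange
    (le_refl (Module.finrank (frobenius k pc).fieldRange k)) fun a => ⟨⟨a ^ pc, a, rfl⟩, rfl⟩
  refine ⟨n, t, fun a => Derivation.mk' (D a).toLinearMap.toAddMonoidHom.toIntLinearMap
    fun x y => (D a).leibniz x y, hdual, fun M hpow ht y => ?_⟩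
  by_contra hy
  obtain ⟨d, hd⟩ := exists_derivation_one pc M (fun a => ⟨⟨a ^ pc, hpow a⟩, rfl⟩) y
    (by rintro ⟨a, ha⟩; exact hy (ha ▸ a.2))
  let d' : Derivation (frobenius k pc).fieldRange k k := Derivation.mk'
    { toFun := d
      map_add' := map_add d
      map_smul' := fun e a => by
        obtain ⟨_, b, rfl⟩ := e
        have h0 : d (frobenius k pc b) = 0 := d.map_algebraMap (⟨b ^ pc, hpow b⟩ : M)
        show d ((frobenius k pc b) * a) = frobenius k pc b * d a
        rw [Derivation.leibniz, h0, smul_zero, add_zero, smul_eq_mul] }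
    fun a b => d.leibniz a b
  have h := DFunLike.congr_fun (hext d' fun c => d.map_algebraMap (⟨t c, ht c⟩ : M)) y
  exact one_ne_zero (hd.symm.trans h)

/-- Pull a derivation back along a ring map, moving the values by a ring map. -/
theorem exists_pullback {A R F L : Type u} [CommRing A] [CommRing R] [CommRing F] [CommRing L] [Algebra A R]
    [Algebra R F] [Algebra A F] [IsScalarTower A R F] [Algebra A L] (j : F →+* L)
    (hj : ∀ a, j (algebraMap A F a) = algebraMap A L a) (D : Derivation ℤ R F) :
    ∃ δ : Derivation ℤ A L, ∀ a, δ a = j (D (algebraMap A R a)) := by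
  refine ⟨Derivation.mk' (AddMonoidHom.mk' (fun a => j (D (algebraMap A R a))) fun a b => by
    rw [map_add, map_add, map_add]).toIntLinearMap fun a b => ?_, fun a => rfl⟩
  show j (D (algebraMap A R (a * b))) = a • j (D (algebraMap A R b)) + b • j (D (algebraMap A R a))
  rw [map_mul, D.leibniz, map_add, Algebra.smul_def, Algebra.smul_def, map_mul, map_mul,
    ← IsScalarTower.algebraMap_apply, ← IsScalarTower.algebraMap_apply, hj, hj, Algebra.smul_def, Algebra.smul_def]

/-- In characteristic `p` formal smoothness gives the Jacobian condition. -/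
theorem jacobian_of_fs_char (pc : ℕ) [Fact pc.Prime] {k A : Type u} [Field k] [CharP k pc]
    [Module.Finite (frobenius k pc).fieldRange k] [CommRing A] [IsRegularLocalRing A]
    [IsAdicComplete (maximalIdeal A) A] [Algebra k A]
    (q p : Ideal A) [p.IsPrime] (hqp : q ≤ p) [(p.map (Ideal.Quotient.mk q)).IsPrime]
    (hfs : CAlgX.IsAdicFormallySmooth k (Localization.AtPrime (p.map (Ideal.Quotient.mk q)))
      (maximalIdeal (Localization.AtPrime (p.map (Ideal.Quotient.mk q))))) :
    ∃ (m : ℕ) (D : Fin m → Derivation k A A) (f : Fin m → A), (∀ i, f i ∈ q) ∧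
      q.map (algebraMap A (Localization.AtPrime p)) =
        Ideal.span (Set.range fun i => algebraMap A (Localization.AtPrime p) (f i)) ∧
      Matrix.det (Matrix.of fun i j => D i (f j)) ∉ p := by
  classical
  haveI : IsNoetherianRing A := inferInstance
  haveI : IsRegularLocalRing (Localization.AtPrime p) := Groth.Agent.S0564.result _ p
  obtain ⟨hregB, hinjB⟩ := (Groth.Agent.S2471.result).1 hfs
  haveI := hregB
  obtain ⟨E⟩ := nonempty_quot_equiv q p hqp
  haveI : IsRegularLocalRing ((Localization.AtPrime p) ⧸ q.map (algebraMap A (Localization.AtPrime p))) :=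
    IsRegularLocalRing.of_ringEquiv (R := Localization.AtPrime (p.map (Ideal.Quotient.mk q))) E
  obtain ⟨m, f, hfm, hfq, hspan, hli⟩ := exists_min_gens q p hqp
  set P := p.map (Ideal.Quotient.mk q)
  set S := Localization.AtPrime P
  set L := p.ResidueField
  haveI : CharP A pc := charP_of_injective_algebraMap (algebraMap k A).injective pc
  haveI : CharP L pc := charP_of_injective_ringHom (f := (algebraMap A L).comp (algebraMap k A))
    ((algebraMap A L).comp (algebraMap k A)).injective pc
  haveI : CharP (Localization.AtPrime p) pc :=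
    charP_of_injective_ringHom (f := (algebraMap A (Localization.AtPrime p)).comp (algebraMap k A))
      ((algebraMap A (Localization.AtPrime p)).comp (algebraMap k A)).injective pc
  obtain ⟨n, t, Dk, hdual, hgen⟩ := exists_base pc k
  -- residue fields
  let j : L →+* P.ResidueField := Ideal.ResidueField.map p P (Ideal.Quotient.mk q) (map_liesOver q p hqp)
  have hjbij : Function.Bijective j :=
    (RingHom.surjectiveOnStalks_of_surjective Ideal.Quotient.mk_surjective).residueFieldMap_bijective p P
      (map_liesOver q p hqp)
  let θ : L ≃+* P.ResidueField := RingEquiv.ofBijective j hjbij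
  have hθ : ∀ a : A, θ.symm (algebraMap A P.ResidueField a) = algebraMap A L a := fun a => by
    rw [RingEquiv.symm_apply_eq]
    refine Eq.trans ?_ (RingEquiv.ofBijective_apply j hjbij (algebraMap A L a)).symm
    rw [Ideal.ResidueField.map_algebraMap, IsScalarTower.algebraMap_apply A (A ⧸ q) P.ResidueField]
    rfl
  -- derivations dual to the generators of the field
  have hext : ∀ c : Fin n, ∃ δ : Derivation ℤ A L,
      (∀ x ∈ q, δ x = 0) ∧ ∀ y : k, δ (algebraMap k A y) = algebraMap A L (algebraMap k A (Dk c y)) := by
    intro c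
    let δk : Derivation ℤ k (ResidueField S) :=
      Derivation.mk' (AddMonoidHom.mk' (fun y => algebraMap k (ResidueField S) (Dk c y)) fun a b => by
        rw [map_add, map_add]).toIntLinearMap fun a b => by
        show algebraMap k (ResidueField S) (Dk c (a * b)) = _
        rw [(Dk c).leibniz, map_add, smul_eq_mul, smul_eq_mul, map_mul, map_mul, ← Algebra.smul_def,
          ← Algebra.smul_def]
        rfl
    obtain ⟨DS, hDS⟩ := RegFS6.exists_derivation_of_injective (F := ResidueField S) hinjB
      (fun x hx => (residue_eq_zero_iff x).2 hx) δk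
    obtain ⟨g, hg⟩ := exists_pullback (A := A) (R := S) (F := ResidueField S) (L := L) θ.symm.toRingHom hθ DS
    refine ⟨g, fun x hx => ?_, fun y => ?_⟩
    · rw [hg]
      show θ.symm (DS (algebraMap A S x)) = 0
      rw [IsScalarTower.algebraMap_apply A (A ⧸ q) S, Ideal.Quotient.algebraMap_eq,
        Ideal.Quotient.eq_zero_iff_mem.2 hx, map_zero, map_zero, map_zero]
    · rw [hg]
      show θ.symm (DS (algebraMap A S (algebraMap k A y))) = _
      rw [← IsScalarTower.algebraMap_apply, hDS]
      show θ.symm (algebraMap k (ResidueField S) (Dk c y)) = _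
      rw [IsScalarTower.algebraMap_apply k A (ResidueField S)]
      exact hθ _
  choose δt hδtq hδtk using hext
  -- derivations dual to the equations
  have hfun : ∀ i : Fin m, ∃ l : CotangentSpace (Localization.AtPrime p) →ₗ[ResidueField (Localization.AtPrime p)]
      ResidueField (Localization.AtPrime p), ∀ i', l ((maximalIdeal (Localization.AtPrime p)).toCotangent ⟨_, hfm i'⟩)
        = if i = i' then 1 else 0 := by
    intro i
    let b := Module.Basis.span hli
    obtain ⟨l, hl⟩ := LinearMap.exists_extend (b.coord i)
    refine ⟨l, fun i' => ?_⟩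
    have h1 := LinearMap.congr_fun hl (b i')
    rw [LinearMap.comp_apply, Module.Basis.coord_apply, Module.Basis.repr_self, Finsupp.single_apply] at h1
    refine Eq.trans ?_ (h1.trans ?_)
    · exact congrArg l (congrArg Subtype.val (Module.Basis.span_apply hli i')).symm
    simp only [eq_comm]
  choose l hl using hfun
  choose Dc hDc using fun i => exists_derivation_cotangent pc (l i)
  choose δf hδf₀ using fun i => exists_pullback (A := A) (R := Localization.AtPrime p)
    (F := ResidueField (Localization.AtPrime p)) (L := L) (RingHom.id _) (fun a => rfl) (Dc i)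
  have hδf : ∀ i i', δf i (f i') = if i = i' then 1 else 0 := fun i i' =>
    (hδf₀ i (f i')).trans ((hDc i ⟨_, hfm i'⟩).trans (hl i i'))
  -- the combined family
  let eqv : Fin (m + n) ≃ Fin m ⊕ Fin n := finSumFinEquiv.symm
  let x : Fin (m + n) → A := fun a => Sum.elim f (fun c => algebraMap k A (t c)) (eqv a)
  let δ : Fin (m + n) → Derivation ℤ A L := fun a => Sum.elim δf δt (eqv a)
  have hdet : Matrix.det (Matrix.of fun a b => δ a (x b)) ≠ 0 := by
    intro h0
    obtain ⟨v, hv, hMv⟩ := Matrix.exists_mulVec_eq_zero_iff.2 h0
    apply hv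
    have hrow : ∀ a : Fin m ⊕ Fin n, ∑ b : Fin m ⊕ Fin n,
        (Sum.elim δf δt a : Derivation ℤ A L) (Sum.elim f (fun c => algebraMap k A (t c)) b) * v (eqv.symm b) = 0 := by
      intro a
      have h1 := congrFun hMv (eqv.symm a)
      rw [← Equiv.sum_comp eqv]
      simpa [Matrix.mulVec, dotProduct, δ, x] using h1
    have hvf : ∀ i, v (eqv.symm (Sum.inr i)) = 0 := by
      intro c
      have := hrow (Sum.inr c)
      rw [Fintype.sum_sum_type] at this
      simp [hδtq _ _ (hfq _), hδtk, hdual, apply_ite (algebraMap k A), apply_ite (algebraMap A L)] at this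
      exact this
    funext b
    obtain ⟨b, rfl⟩ := eqv.symm.surjective b
    rcases b with i | c
    · have := hrow (Sum.inl i)
      rw [Fintype.sum_sum_type] at this
      simpa [hδf, hvf] using this
    · exact hvf c
  obtain ⟨σ, hσ⟩ := Groth.Agent.CoeffField.exists_ringHom_section k A
  obtain ⟨r, e, -⟩ := exists_equiv_powerSeries (ResidueField A) σ fun y => ⟨y, hσ y⟩
  haveI : CharP (ResidueField A) pc := charP_of_injective_algebraMap (algebraMap k (ResidueField A)).injective pc
  obtain ⟨D, hD⟩ := exists_derivations_equiv pc e p x δ hdet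
  -- combinations killing the field
  set M := Matrix.of fun a b => D a (x b) with hM
  let Δ : Fin m → Derivation ℤ A A := fun i => ∑ a, M.adjugate (eqv.symm (Sum.inl i)) a • D a
  have hΔ : ∀ i b, Δ i (x b) = if eqv.symm (Sum.inl i) = b then M.det else 0 := by
    intro i b
    rw [derivation_sum_apply']
    have h1 := congrFun (congrFun (Matrix.adjugate_mul M) (eqv.symm (Sum.inl i))) b
    rw [Matrix.mul_apply] at h1
    rw [Matrix.smul_apply, Matrix.one_apply, smul_eq_mul, mul_ite, mul_one, mul_zero] at h1
    exact h1
  have hΔt : ∀ i c, Δ i (algebraMap k A (t c)) = 0 := fun i c => by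
    have h1 := hΔ i (eqv.symm (Sum.inr c))
    simp only [x, Equiv.apply_symm_apply, Sum.elim_inr] at h1
    rw [h1, if_neg]
    exact fun h => Sum.inl_ne_inr (eqv.symm.injective h)
  have hΔk : ∀ i (y : k), Δ i (algebraMap k A y) = 0 := by
    intro i
    let M' : Subfield k :=
      { carrier := {y | Δ i (algebraMap k A y) = 0}
        one_mem' := by show Δ i _ = 0; rw [map_one, Derivation.map_one_eq_zero]
        zero_mem' := by show Δ i _ = 0; rw [map_zero, map_zero]
        add_mem' := fun {a b} ha hb => by
          show Δ i _ = 0; rw [map_add, map_add]; rw [show Δ i _ = 0 from ha, show Δ i _ = 0 from hb, add_zero]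
        neg_mem' := fun {a} ha => by
          show Δ i _ = 0; rw [map_neg, map_neg, show Δ i _ = 0 from ha, neg_zero]
        mul_mem' := fun {a b} ha hb => by
          show Δ i _ = 0
          rw [map_mul, Derivation.leibniz, show Δ i _ = 0 from ha, show Δ i _ = 0 from hb, smul_zero, smul_zero, add_zero]
        inv_mem' := fun a ha => by
          show Δ i _ = 0
          rcases eq_or_ne a 0 with rfl | ha0
          · rw [inv_zero, map_zero, map_zero]
          have h1 : Δ i (algebraMap k A a * algebraMap k A a⁻¹) = 0 := by
            rw [← map_mul, mul_inv_cancel₀ ha0, map_one, Derivation.map_one_eq_zero]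
          rw [Derivation.leibniz, show Δ i _ = 0 from ha, smul_zero, add_zero, smul_eq_mul] at h1
          exact ((ha0.isUnit.map (algebraMap k A)).mul_right_eq_zero).1 h1 }
    refine hgen M' (fun y => ?_) (hΔt i)
    show Δ i _ = 0
    rw [map_pow, Derivation.leibniz_pow, nsmul_eq_mul, CharP.cast_eq_zero, zero_mul]
  let Δk : Fin m → Derivation k A A := fun i => Derivation.mk'
    { toFun := Δ i
      map_add' := map_add (Δ i)
      map_smul' := fun c a => by
        rw [Algebra.smul_def, Derivation.leibniz, hΔk, smul_zero, add_zero, RingHom.id_apply, smul_eq_mul,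
          Algebra.smul_def] }
    fun a b => (Δ i).leibniz a b
  refine ⟨m, Δk, f, hfq, hspan, ?_⟩
  have h : (Matrix.of fun i i' => Δk i (f i')) = M.det • (1 : Matrix (Fin m) (Fin m) A) := by
    ext i i'
    have h1 := hΔ i (eqv.symm (Sum.inl i'))
    simp only [x, Equiv.apply_symm_apply, Sum.elim_inl] at h1
    rw [Matrix.of_apply, Matrix.smul_apply, Matrix.one_apply, smul_eq_mul, mul_ite, mul_one, mul_zero]
    refine h1.trans ?_
    simp only [eqv.symm.injective.eq_iff, Sum.inl.injEq]
  rw [h, Matrix.det_smul, Matrix.det_one, mul_one]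
  exact fun hmem => hD (Ideal.IsPrime.mem_of_pow_mem inferInstance _ hmem)
where
  derivation_sum_apply' {A : Type u} [CommRing A] {κ : Type} [Fintype κ] {c : κ → A}
      {D : κ → Derivation ℤ A A} {y : A} : (∑ a, c a • D a) y = ∑ a, c a * D a y := by
    classical
    have key : ∀ s : Finset κ, (∑ a ∈ s, c a • D a) y = ∑ a ∈ s, c a * D a y := by
      intro s
      induction s using Finset.induction with
      | empty => simp
      | insert a u ha ih =>
        rw [Finset.sum_insert ha, Finset.sum_insert ha, Derivation.add_apply, ih]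
        rfl
    exact key Finset.univ

end H1JacAbs
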