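import Mathlib
import Groth.Agent.H1JacAbs.NecChar
import Groth.Agent.AdicFS4.Rel
import Groth.Agent.EGA41Lib.FieldFS

/-!
# Nagata's Jacobian criterion
-/

set_option autoImplicit false
set_option backward.isDefEq.respectTransparency false
set_option backward.isDefEq.respectTransparency.types false

universe u

open Groth.Agent IsLocalRing

namespace H1JacAbs

/-- Nagata's Jacobian criterion of formal smoothness. -/
theorem nagata_iff (pc : ℕ) {k K₀ A : Type u} [Field k] [ExpChar k pc]
    (hk : pc = 1 ∨ Module.Finite (frobenius k pc).fieldRange k)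
    [Field K₀] [Algebra k K₀] [Algebra.IsGeometricallyReduced k K₀]
    [CommRing A] [IsLocalRing A] [IsNoetherianRing A] [IsAdicComplete (maximalIdeal A) A]
    [Algebra k A] [Algebra K₀ A] [IsScalarTower k K₀ A]
    (hA : CAlgX.IsAdicFormallySmooth K₀ A (maximalIdeal A))
    (q p : Ideal A) [p.IsPrime] (hqp : q ≤ p) (P : Ideal (A ⧸ q)) [P.IsPrime]
    (hP : P = p.map (Ideal.Quotient.mk q)) :
    CAlgX.IsAdicFormallySmooth k (Localization.AtPrime P) (maximalIdeal (Localization.AtPrime P)) ↔
      ∃ (m : ℕ) (D : Fin m → Derivation k A A) (f : Fin m → A), (∀ i, f i ∈ q) ∧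
        q.map (algebraMap A (Localization.AtPrime p)) =
          Ideal.span (Set.range fun i => algebraMap A (Localization.AtPrime p) (f i)) ∧
        Matrix.det (Matrix.of fun i j => D i (f j)) ∉ p := by
  subst hP
  haveI := Groth.Agent.EGA41Lib.FieldFS.formallySmooth_of_isGeometricallyReduced k K₀
  have hfsk : CAlgX.IsAdicFormallySmooth k A (maximalIdeal A) :=
    Groth.Agent.AdicFS4.isAdicFormallySmooth_comp (Λ := k) (A := K₀) hA
  haveI : IsRegularLocalRing A := ((Groth.Agent.S2471.result).1 hA).1
  constructor
  · intro hfs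
    cases ‹ExpChar k pc› with
    | zero => exact jacobian_of_regular_zero q p hqp ((Groth.Agent.S2471.result).1 hfs).1
    | prime hp =>
      haveI := Fact.mk hp
      haveI : Module.Finite (frobenius k pc).fieldRange k := hk.resolve_left hp.ne_one
      exact jacobian_of_fs_char pc q p hqp hfs
  · rintro ⟨m, D, f, hfq, hspan, hdet⟩
    exact fs_of_jacobian q p hfsk hqp D f hfq hspan hdet

end H1JacAbs
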